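import Cfsg.Agent.Lib.ThreeTrans.RootSplit.Def
import Cfsg.Agent.Lib.ThreeTrans.RootInvGraph

/-!
Owner: helper27. A root involution set with a disconnected commuting graph is split over its components.
-/

set_option autoImplicit false
set_option linter.unusedSectionVars false

namespace CfsgLib.RootSplit

open Cfsg CfsgLib.ThreeTrans

universe u

variable {G : Type u} [Group G] {D : Set G}

/-- The connection by commuting members. -/
abbrev CReach (D : Set G) : G → G → Prop := Relation.ReflTransGen (CommAdj D)

theorem commAdj_symm {a b : G} (h : CommAdj D a b) : CommAdj D b a := ⟨h.2.1, h.1, h.2.2.1.symm, h.2.2.2.symm⟩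

theorem cReach_symm {a b : G} (h : CReach D a b) : CReach D b a := by
  induction h with
  | refl => exact Relation.ReflTransGen.refl
  | tail _ h2 ih => exact Relation.ReflTransGen.head (commAdj_symm h2) ih

theorem cReach_of_commute {a b : G} (ha : a ∈ D) (hb : b ∈ D) (hc : a * b = b * a) : CReach D a b := by
  by_cases hab : a = b
  · exact hab ▸ Relation.ReflTransGen.refl
  · exact Relation.ReflTransGen.single ⟨ha, hb, hab, hc⟩

theorem cReach_conj (hD : IsRootInvolutionSet D) (g : G) {a b : G} (h : CReach D a b) :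
    CReach D (g * a * g⁻¹) (g * b * g⁻¹) := by
  refine h.lift (fun x => g * x * g⁻¹) ?_
  rintro x y ⟨hx, hy, hne, hc⟩
  refine ⟨hD.conj_mem x hx g, hD.conj_mem y hy g, fun e => hne (mul_left_cancel (mul_right_cancel e)), ?_⟩
  calc g * x * g⁻¹ * (g * y * g⁻¹) = g * (x * y) * g⁻¹ := by group
    _ = g * y * g⁻¹ * (g * x * g⁻¹) := by rw [hc]; group

/-- The components of the commuting graph. -/
def cSetoid (D : Set G) : Setoid D where
  r a b := CReach D a.1 b.1
  iseqv := ⟨fun _ => Relation.ReflTransGen.refl, cReach_symm, fun h h' => h.trans h'⟩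

/-- The type of the components. -/
def Comp (hD : IsRootInvolutionSet D) : Type u :=
  have := hD
  Quotient (cSetoid D)

instance compAction (hD : IsRootInvolutionSet D) : MulAction G (Comp hD) where
  smul g := Quotient.map' (fun a : D => (⟨g * a.1 * g⁻¹, hD.conj_mem a.1 a.2 g⟩ : D))
    fun _ _ h => cReach_conj hD g h
  one_smul := fun q => Quotient.inductionOn' q fun a =>
    congrArg Quotient.mk'' (Subtype.ext (show (1 : G) * a.1 * (1 : G)⁻¹ = a.1 by simp))
  mul_smul := fun g g' q => Quotient.inductionOn' q fun a =>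
    congrArg Quotient.mk'' (Subtype.ext (show g * g' * a.1 * (g * g')⁻¹ = g * (g' * a.1 * g'⁻¹) * g⁻¹ by group))

/-- The component of a member. -/
noncomputable def compPt (hD : IsRootInvolutionSet D) (hne : D.Nonempty) (g : G) : Comp hD := by
  classical
  exact Quotient.mk (cSetoid D) (if hg : g ∈ D then ⟨g, hg⟩ else ⟨hne.choose, hne.choose_spec⟩)

theorem compPt_eq (hD : IsRootInvolutionSet D) (hne : D.Nonempty) {g : G} (hg : g ∈ D) :
    compPt hD hne g = Quotient.mk (cSetoid D) ⟨g, hg⟩ := by
  rw [compPt]
  simp only [hg, dite_true]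
  rfl

theorem compPt_eq_iff (hD : IsRootInvolutionSet D) (hne : D.Nonempty) {a b : G} (ha : a ∈ D) (hb : b ∈ D) :
    compPt hD hne a = compPt hD hne b ↔ CReach D a b := by
  rw [compPt_eq hD hne ha, compPt_eq hD hne hb]
  exact Quotient.eq

variable [Finite G]

/-- Members in different components have a product of odd order. -/
theorem odd_of_not_cReach (hD : IsRootInvolutionSet D) {a b : G} (ha : a ∈ D) (hb : b ∈ D)
    (h : ¬ CReach D a b) : Odd (orderOf (a * b)) := by
  rcases hD.pair a ha b hb with hc | ho | ⟨h4, -⟩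
  · exact absurd (cReach_of_commute ha hb hc) h
  · exact ho
  · obtain ⟨htri, -, hcb, -⟩ := RootInv.tri_four hD ha hb h4
    exact absurd ((cReach_of_commute ha htri.2.1 htri.2.2.1).trans (cReach_of_commute htri.2.1 hb hcb)) h

/-- A disconnected commuting graph gives a split set. -/
theorem split_components (hD : IsRootInvolutionSet D) (hne : D.Nonempty)
    (hdis : ¬ IsConnectedSet (CommAdj D) D) (hDD : (D ∩ commutingProducts D).Nonempty) :
    Split D (compPt hD hne) where
  root := hD
  equiv := fun d hd g => by
    rw [compPt_eq hD hne (hD.conj_mem d hd g), compPt_eq hD hne hd]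
    rfl
  odd := fun d hd e he hde => odd_of_not_cReach hD hd he fun h => hde ((compPt_eq_iff hD hne hd he).2 h)
  surj := fun q => Quotient.inductionOn' q fun a => ⟨a.1, a.2, compPt_eq hD hne a.2⟩
  exists_ne := fun q => by
    by_contra hcon
    push Not at hcon
    refine hdis fun a ha b hb => (compPt_eq_iff hD hne ha hb).1 ?_
    rw [hcon (compPt hD hne a), hcon (compPt hD hne b)]
  tri := by
    obtain ⟨x, hx, a, ha, b, hb, hc, -, rfl⟩ := hDD
    exact ⟨a, b, ha, hb, hc, hx⟩

end CfsgLib.RootSplit
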