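import Cfsg.Agent.Lib.ThreeTrans.RootSplit.Core
import Cfsg.Agent.Lib.ThreeTrans.RootSplit.Components
import Cfsg.Agent.Lib.Bender.Gen.Final
import Cfsg.Agent.Lib.Bender.Gen.Structure

/-!
Owner: helper27. The dichotomy for the commuting graph of root involutions.
-/

set_option autoImplicit false
set_option linter.unusedSectionVars false

namespace CfsgLib.RootSplit

open Cfsg CfsgLib.ThreeTrans MulAction

universe u

variable {G : Type u} [Group G] [Finite G]

namespace Split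

variable {Ω : Type u} [MulAction G Ω] {D : Set G} {pt : G → Ω} (h : Split D pt)
include h

theorem oddConnected : IsConnectedSet (OddAdj D) D := by
  intro a ha b hb
  have step : ∀ {a b : G}, a ∈ D → b ∈ D → pt a ≠ pt b → OddAdj D a b := fun ha hb hne =>
    ⟨ha, hb, fun e => hne (congrArg pt e), h.odd _ ha _ hb hne⟩
  by_cases hab : pt a = pt b
  · obtain ⟨q, hq⟩ := h.exists_ne (pt a)
    obtain ⟨c, hc, rfl⟩ := h.surj q
    exact (Relation.ReflTransGen.single (step ha hc hq.symm)).tail (step hc hb (hab ▸ hq))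
  · exact Relation.ReflTransGen.single (step ha hb hab)

theorem hDD : (D ∩ commutingProducts D).Nonempty := by
  obtain ⟨a, b, ha, hb, hc, hab⟩ := h.tri
  exact ⟨a * b, hab, a, ha, b, hb, hc, h.not_one hab, rfl⟩

/-- The kernel on the points is the preimage of the centre modulo the 2-core. -/
theorem ker_eq_twoZCore : (toPermHom G Ω).ker = twoZCore G := by
  refine le_antisymm (RootInv.le_twoZCore h.root h.oddConnected h.hDD fun d hd hmem => ?_) fun n hn => ?_
  · obtain ⟨q, hq⟩ := h.exists_moved hd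
    exact hq (Equiv.ext_iff.1 (MonoidHom.mem_ker.1 hmem) q)
  · refine MonoidHom.mem_ker.2 (Equiv.ext fun q => ?_)
    obtain ⟨d, hd, rfl⟩ := h.surj q
    show n • pt d = pt d
    by_contra hne
    rw [← h.equiv d hd n] at hne
    have hd' := h.conj_mem hd n
    have hodd := h.odd _ hd' d hd hne
    have hO : n * d * n⁻¹ * d ∈ pCore 2 G := by
      rw [twoZCore, Subgroup.mem_comap, Subgroup.mem_center_iff] at hn
      refine (QuotientGroup.eq_one_iff _).1 ?_
      show QuotientGroup.mk' (pCore 2 G) (n * d * n⁻¹ * d) = 1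
      rw [map_mul, map_mul, map_mul, map_inv, ← hn, mul_assoc (QuotientGroup.mk' (pCore 2 G) d),
        mul_inv_cancel, mul_one, ← map_mul, h.sq hd, map_one]
    obtain ⟨k, hk⟩ := (CfsgLib.Core.isPGroup_pCore 2 G) ⟨_, hO⟩
    have h1 := RootInv.eq_one_of_odd_of_pow hodd (congrArg Subtype.val hk)
    exact hne (congrArg pt ((eq_inv_of_mul_eq_one_left h1).trans (h.inv_eq hd)))

/-- The quotient by the preimage of the centre modulo the 2-core. -/
theorem family (hmain : AschCrit.Main.{u}) : Bender.RankOneFamily (G ⧸ twoZCore G) := by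
  haveI : Finite Ω := h.finite_points
  let e : (G ⧸ twoZCore G) ≃* (toPermHom G Ω).range :=
    (QuotientGroup.quotientMulEquivOfEq h.ker_eq_twoZCore.symm).trans (QuotientGroup.quotientKerEquivRange _)
  haveI := (RootInv.radical_and_simple h.root h.oddConnected h.hDD).2
  haveI : IsSimpleGroup (toPermHom G Ω).range := e.symm.isSimpleGroup
  obtain ⟨a, b, htri⟩ := h.image.tri
  have hSE := h.image.stronglyEmbedded_of_faithful hmain h.image_faithful (imgPt D pt a)
  have hfour : ∃ s ∈ stabilizer (toPermHom G Ω).range (imgPt D pt a), ∃ t ∈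
      stabilizer (toPermHom G Ω).range (imgPt D pt a), orderOf s = 2 ∧ orderOf t = 2 ∧ s ≠ t ∧ s * t = t * s :=
    ⟨a, h.image.fix_pt htri.1, b, by
      rw [mem_stabilizer_iff, h.image.pt_eq_of_commute htri.1 htri.2.1 htri.2.2.1]
      exact h.image.fix_pt htri.2.1,
      h.image.root.orderOf_eq a htri.1, h.image.root.orderOf_eq b htri.2.1,
      RootInv.Tri.ne h.image.root htri, htri.2.2.1⟩
  rcases Bender.family_of_simple Bender.benderGen hSE hfour with
    ⟨F, iF, iFt, hc, h4, ⟨f⟩⟩ | ⟨F, iF, iFt, q, hq, h4, hF, ⟨f⟩⟩ | ⟨F, iF, iFt, m, hm, hF, ⟨f⟩⟩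
  · exact Or.inl ⟨F, iF, iFt, hc, h4, ⟨e.trans f⟩⟩
  · exact Or.inr (Or.inl ⟨F, iF, iFt, q, hq, h4, hF, ⟨e.trans f⟩⟩)
  · exact Or.inr (Or.inr ⟨F, iF, iFt, m, hm, hF, ⟨e.trans f⟩⟩)

end Split

/-- The statement of S5044, from the criterion. -/
theorem dichotomy (hmain : AschCrit.Main.{u}) {D : Set G} (hD : IsRootInvolutionSet D)
    (hDD : (D ∩ commutingProducts D).Nonempty) :
    IsConnectedSet (CommAdj D) D ∨
    (∃ (F : Type) (_ : Field F) (_ : Fintype F), CharP F 2 ∧ 4 ≤ Fintype.card F ∧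
      Nonempty (G ⧸ twoZCore G ≃* Matrix.ProjectiveSpecialLinearGroup (Fin 2) F)) ∨
    Lie.IsoSuzuki (G ⧸ twoZCore G) ∨
    (∃ (F : Type) (_ : Field F) (_ : Fintype F) (q : ℕ), CharP F 2 ∧ Fintype.card F = q ^ 2 ∧ 4 ≤ q ∧
      Nonempty (G ⧸ twoZCore G ≃* Cfsg.PSU 3 F q)) := by
  refine (em (IsConnectedSet (CommAdj D) D)).imp_right fun hdis => ?_
  have hne : D.Nonempty := hDD.mono Set.inter_subset_left
  rcases (split_components hD hne hdis hDD).family hmain with
    ⟨F, iF, iFt, hc, h4, ⟨f⟩⟩ | ⟨F, iF, iFt, q, hq, h4, hF, hf⟩ | hs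
  · obtain ⟨e'⟩ := CfsgLib.Recog.AffineTwo.psl_equiv_sl F
    exact Or.inl ⟨F, iF, iFt, hc, h4, ⟨f.trans e'.symm⟩⟩
  · refine Or.inr (Or.inr ⟨F, iF, iFt, q, ?_, hF, h4, hf⟩)
    refine (ringChar.eq_iff).1 (FiniteField.even_card_iff_char_two.2 ?_)
    rw [hF]
    exact Nat.even_iff.1 (Nat.even_pow.2 ⟨hq, two_ne_zero⟩)
  · exact Or.inr (Or.inl hs)

end CfsgLib.RootSplit
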