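import Cfsg.Agent.Lib.ThreeTrans.RootSplit.Core
import Cfsg.Agent.Lib.ThreeTrans.RootInvGraph

/-!
Owner: helper27. A component of the product graph with a pair of odd order commutes with all other members.
-/

set_option autoImplicit false
set_option linter.unusedSectionVars false

namespace CfsgLib.RootSplit

open Cfsg CfsgLib.ThreeTrans

universe u

/-- The connection by triples. -/
abbrev PReach {G : Type u} [Group G] (D : Set G) : G → G → Prop := Relation.ReflTransGen (ProdAdj D)

section Basic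

variable {G : Type u} [Group G] {D : Set G}

theorem prodAdj_symm {a b : G} (h : ProdAdj D a b) : ProdAdj D b a :=
  ⟨h.2.1, h.1, h.2.2.1.symm, h.2.2.2.1.symm, h.2.2.2.1 ▸ h.2.2.2.2⟩

theorem pReach_symm {a b : G} (h : PReach D a b) : PReach D b a := by
  induction h with
  | refl => exact Relation.ReflTransGen.refl
  | tail _ h2 ih => exact Relation.ReflTransGen.head (prodAdj_symm h2) ih

theorem pReach_mem {a b : G} (ha : a ∈ D) (h : PReach D a b) : b ∈ D := by
  induction h with
  | refl => exact ha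
  | tail _ h2 _ => exact h2.2.1

variable [Finite G] (hD : IsRootInvolutionSet D)
include hD

theorem prodAdj_of_tri {a b : G} (h : RootInv.Tri D a b) : ProdAdj D a b :=
  ⟨h.1, h.2.1, RootInv.Tri.ne hD h, h.2.2.1, h.2.2.2⟩

theorem pReach_of_four {a b : G} (ha : a ∈ D) (hb : b ∈ D) (h4 : orderOf (a * b) = 4) : PReach D a b := by
  obtain ⟨htri, -, -, hsym⟩ := RootInv.tri_four hD ha hb h4
  obtain ⟨htri', -, -, -⟩ := RootInv.tri_four hD hb ha (by rw [RootInv.orderOf_symm hD ha hb]; exact h4)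
  rw [hsym] at htri'
  exact (Relation.ReflTransGen.single (prodAdj_of_tri hD htri)).tail (prodAdj_symm (prodAdj_of_tri hD htri'))

theorem pReach_conj (g : G) {a b : G} (h : PReach D a b) : PReach D (g * a * g⁻¹) (g * b * g⁻¹) := by
  refine h.lift (fun x => g * x * g⁻¹) ?_
  rintro x y ⟨hx, hy, hne, hc, hxy⟩
  have e : g * x * g⁻¹ * (g * y * g⁻¹) = g * (x * y) * g⁻¹ := by group
  refine ⟨hD.conj_mem x hx g, hD.conj_mem y hy g, fun h' => hne (mul_left_cancel (mul_right_cancel h')), ?_, ?_⟩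
  · rw [e, hc]; group
  · rw [e]; exact hD.conj_mem _ hxy g

/-- Members of different components commute or have a product of odd order. -/
theorem odd_of_not_pReach {a b : G} (ha : a ∈ D) (hb : b ∈ D) (h : ¬ PReach D a b) (hc : a * b ≠ b * a) :
    b ∈ oddPartners D a := by
  by_contra ho
  exact h (pReach_of_four hD ha hb (RootInv.four hD ha hb hc ho).1)

/-- A member commuting with one member of another component commutes with all of it. -/
theorem commute_component {a b z : G} (ha : a ∈ D) (hz : z ∈ D) (hn : ¬ PReach D a z) (hc : a * z = z * a)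
    (h : PReach D a b) : b * z = z * b := by
  induction h with
  | refl => exact hc
  | @tail x y hax hxy ih =>
    obtain ⟨hx, hy, -, hcomm, hxyD⟩ := id hxy
    by_contra hne
    have ho : z ∉ oddPartners D y := (RootInv.T2 hD ⟨hx, hy, hcomm, hxyD⟩ ih).1
    have h4 := (RootInv.four hD hy hz hne ho).1
    exact hn ((hax.tail hxy).trans (pReach_of_four hD hy hz h4))

theorem not_odd_of_commute {a b : G} (ha : a ∈ D) (hb : b ∈ D) (h : a * b = b * a) : b ∉ oddPartners D a :=
  RootInv.not_odd_of_comm hD ha hb h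

/-- A pair of odd order is conjugate inside any subgroup containing it. -/
theorem exists_conj_odd {a b : G} (ha : a ∈ D) (hb : b ∈ oddPartners D a) (A : Subgroup G) (haA : a ∈ A)
    (hbA : b ∈ A) : ∃ g ∈ A, g * a * g⁻¹ = b := by
  obtain ⟨hbD, -, k, hk⟩ := hb
  refine ⟨(b * a) ^ (k + 1), pow_mem (mul_mem hbA haA) _, ?_⟩
  have hconj : a * ((b * a) ^ (k + 1))⁻¹ = (b * a) ^ (k + 1) * a := by
    rw [← inv_pow, RootInv.mul_inv_rev' hD hbD ha]
    generalize k + 1 = m
    induction m with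
    | zero => simp
    | succ m ihm =>
      rw [pow_succ (a * b), ← mul_assoc, ihm, pow_succ (b * a)]
      simp only [mul_assoc, RootInv.cancel hD ha, RootInv.sq_one hD ha, mul_one]
  have hord : orderOf (b * a) = 2 * k + 1 := by rw [RootInv.orderOf_symm hD ha hbD]; exact hk
  calc (b * a) ^ (k + 1) * a * ((b * a) ^ (k + 1))⁻¹ = (b * a) ^ (2 * k + 1 + 1) * a := by
        rw [mul_assoc, hconj, ← mul_assoc, ← pow_add]; congr 2; omega
    _ = b := by
        rw [pow_succ, ← hord, pow_orderOf_eq_one, one_mul, mul_assoc, RootInv.sq_one hD ha, mul_one]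

/-- The members in a subgroup generated by some of them. -/
theorem restrict_root {S : Set G} (hS : S ⊆ D) :
    IsRootInvolutionSet {g : Subgroup.closure S | (g : G) ∈ D} := by
  refine ⟨fun g hg => by rw [← Subgroup.orderOf_coe]; exact hD.orderOf_eq _ hg, ?_,
    fun g hg c => hD.conj_mem _ hg _, fun x hx y hy => ?_⟩
  · rw [eq_top_iff]
    rintro ⟨g, hg⟩ -
    induction hg using Subgroup.closure_induction with
    | mem y hy => exact Subgroup.subset_closure (k := {g : Subgroup.closure S | (g : G) ∈ D}) (hS hy)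
    | one => exact one_mem _
    | mul y z _ _ hy hz => exact mul_mem hy hz
    | inv y _ hy => exact inv_mem hy
  · rcases hD.pair _ hx _ hy with hc | ho | ⟨h4, hD4⟩
    · exact Or.inl (Subtype.ext hc)
    · exact Or.inr (Or.inl (by rwa [← Subgroup.orderOf_coe]))
    · exact Or.inr (Or.inr ⟨by rwa [← Subgroup.orderOf_coe], hD4⟩)

end Basic

/-- What the induction proves. -/
def CompBelow (N : ℕ) : Prop :=
  ∀ (H : Type u) [Group H] [Finite H] (D : Set H), Nat.card H < N → IsRootInvolutionSet D →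
    ∀ p p' q : H, p ∈ D → PReach D p p' → p' ∈ oddPartners D p → q ∈ D → ¬ PReach D p q → p * q = q * p

/-- The type of the classes: same component, or commuting. -/
def clsSetoid {G : Type u} [Group G] (D D₀ : Set G)
    (ht : ∀ a ∈ D₀, ∀ b ∈ D₀, ∀ c ∈ D₀, (PReach D a b ∨ a * b = b * a) → (PReach D b c ∨ b * c = c * b) →
      (PReach D a c ∨ a * c = c * a)) : Setoid D₀ where
  r a b := PReach D a.1 b.1 ∨ a.1 * b.1 = b.1 * a.1
  iseqv := ⟨fun _ => Or.inl Relation.ReflTransGen.refl, fun h => h.imp pReach_symm Eq.symm,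
    fun {a b c} h h' => ht a.1 a.2 b.1 b.2 c.1 c.2 h h'⟩

theorem component_step (hmain : AschCrit.Main.{u}) {N : ℕ} (IH : CompBelow.{u} N) {G : Type u} [Group G] [Finite G]
    (hN : Nat.card G ≤ N) {D : Set G} (hD : IsRootInvolutionSet D) {p p' q : G} (hp : p ∈ D)
    (hpp : PReach D p p') (hodd : p' ∈ oddPartners D p) (hq : q ∈ D) (hn : ¬ PReach D p q) :
    p * q = q * p := by
  classical
  set P : Set G := {e | PReach D p e} with hP
  have hPD : P ⊆ D := fun e he => pReach_mem hp he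
  -- a member not commuting with the component generates with it the whole group
  have hgen : ∀ z ∈ D, ¬ PReach D p z → p * z ≠ z * p → Subgroup.closure (insert z P) = ⊤ := by
    intro z hz hnz hne
    by_contra hlt
    set L := Subgroup.closure (insert z P) with hL
    have hzL : z ∈ L := Subgroup.subset_closure (Or.inl rfl)
    have hPL : ∀ e, PReach D p e → e ∈ L := fun e he => Subgroup.subset_closure (Or.inr he)
    have hsub : ∀ e (he : PReach D p e),
        PReach {g : L | (g : G) ∈ D} ⟨p, hPL p .refl⟩ ⟨e, hPL e he⟩ := by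
      intro e he
      induction he with
      | refl => exact .refl
      | @tail x y hx hxy ih =>
        exact ih.tail ⟨hxy.1, hxy.2.1, fun e1 => hxy.2.2.1 (congrArg Subtype.val e1),
          Subtype.ext hxy.2.2.2.1, hxy.2.2.2.2⟩
    refine hne (congrArg Subtype.val (IH L {g : L | (g : G) ∈ D}
      (lt_of_lt_of_le (lt_of_le_of_ne (Subgroup.card_le_card_group _)
        fun e => hlt (Subgroup.eq_top_of_card_eq _ e)) hN)
      (restrict_root hD (Set.insert_subset hz hPD)) ⟨p, hPL p .refl⟩ ⟨p', hPL p' hpp⟩ ⟨z, hzL⟩ hp (hsub p' hpp)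
      ⟨hodd.1, fun e => hodd.2.1 (congrArg Subtype.val e), by rw [← Subgroup.orderOf_coe]; exact hodd.2.2⟩ hz
      fun h => hnz (h.lift Subtype.val fun x y hxy => ⟨hxy.1, hxy.2.1, fun e => hxy.2.2.1 (Subtype.ext e),
        congrArg Subtype.val hxy.2.2.2.1, hxy.2.2.2.2⟩)))
  have hnc : ∀ z ∈ D, ¬ PReach D p z → p * z ≠ z * p → ∀ e, PReach D p e → e * z ≠ z * e := by
    intro z hz hnz hne e he hc
    exact hne (commute_component hD (pReach_mem hp he) hz (fun h => hnz (he.trans h)) hc (pReach_symm he))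
  by_contra hne
  have hq' := hgen q hq hn hne
  set D₀ : Set G := {d | ∃ g : G, ∃ e, PReach D p e ∧ g * e * g⁻¹ = d} with hD₀
  have hD₀D : D₀ ⊆ D := by rintro d ⟨g, e, he, rfl⟩; exact hD.conj_mem e (hPD he) g
  have hD₀reach : ∀ {d e : G}, d ∈ D₀ → PReach D d e → e ∈ D₀ := by
    rintro d e ⟨g, d₁, hd₁, rfl⟩ he
    refine ⟨g, g⁻¹ * e * g⁻¹⁻¹, hd₁.trans ?_, by group⟩
    have := pReach_conj hD g⁻¹ he
    rwa [show g⁻¹ * (g * d₁ * g⁻¹) * g⁻¹⁻¹ = d₁ by group] at this
  have hPD₀ : ∀ e, PReach D p e → e ∈ D₀ := fun e he => ⟨1, e, he, by simp⟩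
  have hqD₀ : q ∈ D₀ := by
    obtain ⟨g, -, hg⟩ := exists_conj_odd hD hp (odd_of_not_pReach hD hp hq hn hne) ⊤ trivial trivial
    exact ⟨g, p, .refl, hg⟩
  have hroot : IsRootInvolutionSet D₀ := by
    refine ⟨fun d hd => hD.orderOf_eq d (hD₀D hd), ?_, ?_, fun x hx y hy => ?_⟩
    · rw [eq_top_iff, ← hq', Subgroup.closure_le]
      rintro e (rfl | he)
      · exact Subgroup.subset_closure hqD₀
      · exact Subgroup.subset_closure (hPD₀ e he)
    · rintro d ⟨g, e, he, rfl⟩ c
      exact ⟨c * g, e, he, by group⟩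
    · rcases hD.pair x (hD₀D hx) y (hD₀D hy) with hc | ho | ⟨h4, hD4⟩
      · exact Or.inl hc
      · exact Or.inr (Or.inl ho)
      · exact Or.inr (Or.inr ⟨h4, hD₀reach hx (Relation.ReflTransGen.single
          (prodAdj_of_tri hD (RootInv.tri_four hD (hD₀D hx) (hD₀D hy) h4).1))⟩)
  -- two members commuting with a third of another component
  have hstep : ∀ r s t : G, r ∈ D₀ → s ∈ D₀ → t ∈ D₀ → ¬ PReach D r s → r * s = s * r → s * t = t * s →
      ¬ PReach D r t → r * t = t * r := by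
    intro r s t hr hs ht hrs hc hc' hrt
    by_contra hne'
    obtain ⟨g, r₁, hr₁, rfl⟩ := hr
    have hconj : ∀ {a b : G}, PReach D (g⁻¹ * a * g⁻¹⁻¹) (g⁻¹ * b * g⁻¹⁻¹) → PReach D a b := fun {a b} h => by
      have := pReach_conj hD g h
      rwa [show g * (g⁻¹ * a * g⁻¹⁻¹) * g⁻¹ = a by group, show g * (g⁻¹ * b * g⁻¹⁻¹) * g⁻¹ = b by group] at this
    have e1 : g⁻¹ * (g * r₁ * g⁻¹) * g⁻¹⁻¹ = r₁ := by group
    have hcc : ∀ {a b : G}, a * b = b * a →
        g⁻¹ * a * g⁻¹⁻¹ * (g⁻¹ * b * g⁻¹⁻¹) = g⁻¹ * b * g⁻¹⁻¹ * (g⁻¹ * a * g⁻¹⁻¹) := fun {a b} h => by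
      rw [show g⁻¹ * a * g⁻¹⁻¹ * (g⁻¹ * b * g⁻¹⁻¹) = g⁻¹ * (a * b) * g⁻¹⁻¹ by group, h]; group
    set s₁ := g⁻¹ * s * g⁻¹⁻¹ with hs₁
    set t₁ := g⁻¹ * t * g⁻¹⁻¹ with ht₁
    have hs₁D : s₁ ∈ D := hD.conj_mem s (hD₀D hs) _
    have hns : ¬ PReach D r₁ s₁ := fun h => hrs (hconj (e1.symm ▸ h))
    have hcs : r₁ * s₁ = s₁ * r₁ := by have := hcc hc; rwa [e1] at this
    have ht₁D : t₁ ∈ D := hD.conj_mem t (hD₀D ht) _
    have hnt : ¬ PReach D p t₁ := fun h => hrt (hconj (e1.symm ▸ (pReach_symm hr₁).trans h))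
    have hct : p * t₁ ≠ t₁ * p := fun h => hne' (by
      have h1 := commute_component hD hp ht₁D hnt h hr₁
      have h2 := congrArg (fun z => g * z * g⁻¹) h1
      simpa [ht₁, mul_assoc] using h2)
    have htop := hgen t₁ ht₁D hnt hct
    have hcent : ∀ x : G, x * s₁ = s₁ * x := by
      have hle : Subgroup.closure (insert t₁ P) ≤ Subgroup.centralizer ({s₁} : Set G) := by
        rw [Subgroup.closure_le]
        rintro e (rfl | he)
        · exact Subgroup.mem_centralizer_singleton_iff.2 (hcc hc').symm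
        · exact Subgroup.mem_centralizer_singleton_iff.2
            (commute_component hD (pReach_mem hp hr₁) hs₁D hns hcs ((pReach_symm hr₁).trans he))
      exact fun x => Subgroup.mem_centralizer_singleton_iff.1 (hle (htop ▸ Subgroup.mem_top x))
    obtain ⟨c, s₂, hs₂, hs₂eq⟩ : s₁ ∈ D₀ := hroot.conj_mem s hs _
    have hs₂eq' : s₂ = s₁ := by
      calc s₂ = c⁻¹ * (c * s₂ * c⁻¹) * c := by group
        _ = c⁻¹ * (c * s₁) := by rw [hs₂eq, mul_assoc, hcent c]
        _ = s₁ := inv_mul_cancel_left c s₁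
    exact hnc t₁ ht₁D hnt hct s₂ hs₂ (by rw [hs₂eq', hcent t₁])
  have htrans : ∀ a ∈ D₀, ∀ b ∈ D₀, ∀ c ∈ D₀, (PReach D a b ∨ a * b = b * a) → (PReach D b c ∨ b * c = c * b) →
      (PReach D a c ∨ a * c = c * a) := by
    intro a ha b hb c hc hab hbc
    by_cases hac : PReach D a c
    · exact Or.inl hac
    refine Or.inr ?_
    by_cases hab' : PReach D a b
    · rcases hbc with hbc | hbc
      · exact absurd (hab'.trans hbc) hac
      · exact commute_component hD (hD₀D hb) (hD₀D hc) (fun h => hac (hab'.trans h)) hbc (pReach_symm hab')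
    · have habc := hab.resolve_left hab'
      by_cases hbc' : PReach D b c
      · exact (commute_component hD (hD₀D hb) (hD₀D ha) (fun h => hab' (pReach_symm h)) habc.symm hbc').symm
      · exact hstep a b c ha hb hc hab' habc (hbc.resolve_left hbc') hac
  let S := clsSetoid D D₀ htrans
  letI : MulAction G (Quotient S) :=
    { smul := fun g => Quotient.map' (fun a : D₀ => (⟨g * a.1 * g⁻¹, hroot.conj_mem a.1 a.2 g⟩ : D₀))
        fun a b h => h.imp (pReach_conj hD g) fun e => by
          show g * a.1 * g⁻¹ * (g * b.1 * g⁻¹) = g * b.1 * g⁻¹ * (g * a.1 * g⁻¹)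
          rw [show g * a.1 * g⁻¹ * (g * b.1 * g⁻¹) = g * (a.1 * b.1) * g⁻¹ by group, e]; group
      one_smul := fun z => Quotient.inductionOn' z fun a =>
        congrArg Quotient.mk'' (Subtype.ext (show (1 : G) * a.1 * (1 : G)⁻¹ = a.1 by simp))
      mul_smul := fun g g' z => Quotient.inductionOn' z fun a =>
        congrArg Quotient.mk''
          (Subtype.ext (show g * g' * a.1 * (g * g')⁻¹ = g * (g' * a.1 * g'⁻¹) * g⁻¹ by group)) }
  let p₀ : D₀ := ⟨p, hPD₀ p .refl⟩
  let pt : G → Quotient S := fun g => if hg : g ∈ D₀ then Quotient.mk S ⟨g, hg⟩ else Quotient.mk S p₀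
  have hpt : ∀ {g : G} (hg : g ∈ D₀), pt g = Quotient.mk S ⟨g, hg⟩ := fun hg => dif_pos hg
  have hsplit : Split D₀ pt := by
    refine ⟨hroot, fun d hd g => ?_, fun d hd e he hne' => ?_, fun z => ?_, fun z => ?_, ?_⟩
    · rw [hpt (hroot.conj_mem d hd g), hpt hd]; rfl
    · rw [hpt hd, hpt he] at hne'
      have hno : ¬ (PReach D d e ∨ d * e = e * d) := fun h => hne' (Quotient.sound h)
      exact (odd_of_not_pReach hD (hD₀D hd) (hD₀D he) (fun h => hno (Or.inl h)) fun h => hno (Or.inr h)).2.2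
    · exact Quotient.inductionOn' z fun a => ⟨a.1, a.2, hpt a.2⟩
    · have hpq : (Quotient.mk S p₀) ≠ Quotient.mk S ⟨q, hqD₀⟩ := fun e =>
        (Quotient.exact e).elim hn hne
      by_cases hz : Quotient.mk S p₀ = z
      · exact ⟨_, fun e => hpq (hz.trans e.symm)⟩
      · exact ⟨_, hz⟩
    · rcases hpp.cases_head with e | ⟨b, hb, -⟩
      · exact absurd e.symm hodd.2.1
      · exact ⟨p, b, hPD₀ p .refl, hPD₀ b (.single hb), hb.2.2.2.1,
          hPD₀ _ ((Relation.ReflTransGen.single hb).tail (prodAdj_of_tri hD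
            (RootInv.Tri.third hD (RootInv.Tri.symm hD ⟨hb.1, hb.2.1, hb.2.2.2.1, hb.2.2.2.2⟩))) |>.trans
              (by rw [hb.2.2.2.1]))⟩
  have hcl := (hsplit.concl hmain).clique p (hPD₀ p .refl) p' (hPD₀ p' hpp) (by
    rw [hpt (hPD₀ p .refl), hpt (hPD₀ p' hpp)]; exact Quotient.sound (Or.inl hpp))
  exact not_odd_of_commute hD hp hodd.1 hcl.eq hodd

theorem compBelow_all (hmain : AschCrit.Main.{u}) : ∀ N, CompBelow.{u} N := by
  intro N
  induction N with
  | zero => intro H _ _ D hlt; omega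
  | succ N ih =>
    intro H _ _ D hlt hD p p' q hp hpp hodd hq hn
    exact component_step hmain ih (Nat.lt_succ_iff.1 hlt) hD hp hpp hodd hq hn

/-- A component with a pair of odd order commutes with the other members. -/
theorem component_commutes (hmain : AschCrit.Main.{u}) {G : Type u} [Group G] [Finite G] {D : Set G}
    (hD : IsRootInvolutionSet D) {p p' q : G} (hp : p ∈ D) (hpp : PReach D p p') (hodd : p' ∈ oddPartners D p)
    (hq : q ∈ D) (hn : ¬ PReach D p q) : p * q = q * p :=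
  compBelow_all hmain _ G D (Nat.lt_succ_self _) hD p p' q hp hpp hodd hq hn

end CfsgLib.RootSplit
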