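import Cfsg.Agent.Lib.ThreeTrans.RootSplit.Def
import Mathlib.GroupTheory.Perm.Cycle.Type
import Mathlib.GroupTheory.Sylow
import Mathlib.Algebra.Ring.Parity

/-!
Owner: helper27. Root involutions split over points: middles, swappers, parities.
-/

set_option autoImplicit false
set_option linter.unusedSectionVars false

namespace CfsgLib.RootSplit

open Cfsg CfsgLib.ThreeTrans

universe u v

variable {G : Type u} [Group G] [Finite G] {Ω : Type v} [MulAction G Ω] {D : Set G} {pt : G → Ω}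

namespace Split

variable (h : Split D pt)
include h

theorem sq {d : G} (hd : d ∈ D) : d * d = 1 := RootInv.sq_one h.root hd

theorem inv_eq {d : G} (hd : d ∈ D) : d⁻¹ = d := RootInv.inv_eq h.root hd

theorem cancel {d : G} (hd : d ∈ D) (x : G) : d * (d * x) = x := RootInv.cancel h.root hd x

theorem conj_mem {d : G} (hd : d ∈ D) (g : G) : g * d * g⁻¹ ∈ D := h.root.conj_mem d hd g

theorem conj_mem' {d e : G} (hd : d ∈ D) (he : e ∈ D) : e * d * e ∈ D := RootInv.conj h.root he hd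

theorem pt_conj {d e : G} (hd : d ∈ D) (he : e ∈ D) : pt (e * d * e) = e • pt d := by
  have := h.equiv d hd e
  rwa [h.inv_eq he] at this

theorem smul_pt_of_commute {d g : G} (hd : d ∈ D) (hc : Commute g d) : g • pt d = pt d := by
  rw [← h.equiv d hd g, hc.eq, mul_inv_cancel_right]

theorem fix_pt {d : G} (hd : d ∈ D) : d • pt d = pt d := h.smul_pt_of_commute hd (Commute.refl d)

theorem smul_smul_self {d : G} (hd : d ∈ D) (q : Ω) : d • d • q = q := by
  rw [smul_smul, h.sq hd, one_smul]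

/-- A member at the middle of a dihedral group. -/
theorem exists_middle {d e : G} (hd : d ∈ D) (he : e ∈ D) (ho : Odd (orderOf (d * e))) :
    ∃ m ∈ D, m * d * m = e ∧ (∀ g : G, g * g = 1 → g * d * g = e → Commute g m) ∧
      (∀ g : G, Commute g d → Commute g e → Commute g m) ∧
      (∀ q : Ω, d • q = q → e • q = q → m • q = q) ∧
      ∀ A : Subgroup G, d ∈ A → e ∈ A → m ∈ A := by
  obtain ⟨i, hi⟩ := ho
  have hdd := h.sq hd
  have hee := h.sq he
  set r := d * e with hr
  have hr1 : r ^ (2 * i + 1) = 1 := by rw [← hi, pow_orderOf_eq_one]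
  have hri : r⁻¹ = e * d := RootInv.mul_inv_rev' h.root hd he
  have hdrd : d * r * d⁻¹ = r⁻¹ := by rw [hri, h.inv_eq hd, hr, ← mul_assoc, hdd, one_mul]
  have hdn : ∀ n : ℕ, d * r ^ n = (r ^ n)⁻¹ * d := fun n => by
    have h1 := conj_pow (a := d) (b := r) (i := n)
    rw [hdrd, inv_pow] at h1
    rw [h1, inv_mul_cancel_right]
  set m := r ^ i * d with hm
  have hmd : m * d * m = e := by
    calc m * d * m = r ^ i * (r ^ i * d) := by rw [hm]; simp only [mul_assoc, h.cancel hd]
      _ = r ^ (2 * i + 1) * r⁻¹ * d := by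
          rw [← mul_assoc, ← pow_add, ← two_mul, pow_succ, mul_inv_cancel_right]
      _ = e := by rw [hr1, one_mul, hri, mul_assoc, hdd, mul_one]
  have hm' : (r ^ i)⁻¹ * e = m := by
    calc (r ^ i)⁻¹ * e = (r ^ i)⁻¹ * r ^ (2 * i + 1) * e := by rw [hr1, mul_one]
      _ = r ^ i * r * e := by
          rw [show 2 * i + 1 = i + (i + 1) by omega, pow_add, inv_mul_cancel_left, pow_succ]
      _ = m := by rw [hm, mul_assoc, hr, mul_assoc, hee, mul_one]
  have hconj : (r ^ (i * (i + 1))) * d * (r ^ (i * (i + 1)))⁻¹ = m := by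
    have h2 : d * (r ^ (i * (i + 1)))⁻¹ = r ^ (i * (i + 1)) * d := by
      rw [eq_comm, eq_mul_inv_iff_mul_eq, mul_assoc, hdn, mul_inv_cancel_left]
    calc r ^ (i * (i + 1)) * d * (r ^ (i * (i + 1)))⁻¹ = r ^ (i * (i + 1)) * r ^ (i * (i + 1)) * d := by
          rw [mul_assoc, h2, mul_assoc]
      _ = r ^ (i * (2 * i + 1) + i) * d := by
          rw [← pow_add]; congr 2; ring
      _ = m := by rw [pow_add, mul_comm i (2 * i + 1), pow_mul, hr1, one_pow, one_mul, hm]
  refine ⟨m, hconj ▸ h.conj_mem hd _, hmd, fun g hg hgd => ?_, fun g hgd hge => ?_, fun q hdq heq => ?_,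
    fun A hdA heA => mul_mem (pow_mem (mul_mem hdA heA) _) hdA⟩
  · have hgi : g⁻¹ = g := inv_eq_of_mul_eq_one_right hg
    have hge : g * e * g = d := by
      rw [← hgd]; simp only [mul_assoc, hg, mul_one]; rw [← mul_assoc g g, hg, one_mul]
    have h1 : g * r * g⁻¹ = r⁻¹ := by
      calc g * r * g⁻¹ = g * d * g * (g * e * g) := by
            rw [hgi, hr]; simp only [mul_assoc]; rw [← mul_assoc g g, hg, one_mul]
        _ = r⁻¹ := by rw [hgd, hge, hri]
    have h2 : g * m * g⁻¹ = m := by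
      calc g * m * g⁻¹ = g * r ^ i * g⁻¹ * (g * d * g⁻¹) := by rw [hm]; group
        _ = m := by
          rw [← conj_pow, h1, inv_pow, hgi, hgd, hm']
    exact mul_inv_eq_iff_eq_mul.1 h2
  · exact ((hgd.mul_right hge).pow_right i).mul_right hgd
  · have h1 : r • q = q := by rw [hr, mul_smul, heq, hdq]
    rw [hm, mul_smul, hdq]
    exact Subgroup.pow_mem (MulAction.stabilizer G q) h1 i

/-- Members fix only their point. -/
theorem fix_eq {d : G} (hd : d ∈ D) {q : Ω} (hq : d • q = q) : pt d = q := by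
  by_contra hne
  obtain ⟨e, he, rfl⟩ := h.surj q
  obtain ⟨m, hm, hmde, -, -, hfix, -⟩ := h.exists_middle hd he (h.odd d hd e he hne)
  have hmq : m • pt e = pt e := hfix _ hq (h.fix_pt he)
  refine hne ?_
  have h1 : pt e = m • pt d := by rw [← hmde, h.pt_conj hd hm]
  rw [h1] at hmq ⊢
  rw [h.smul_smul_self hm] at hmq
  exact hmq

theorem smul_ne {d : G} (hd : d ∈ D) {q : Ω} (hq : pt d ≠ q) : d • q ≠ q := fun e => hq (h.fix_eq hd e)

theorem not_one {d : G} (hd : d ∈ D) : d ≠ 1 := RootInv.ne_one h.root hd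

theorem pt_eq_of_commute {d e : G} (hd : d ∈ D) (he : e ∈ D) (hc : Commute d e) : pt d = pt e :=
  h.fix_eq hd (h.smul_pt_of_commute he hc)

theorem pt_eq_of_four {d e : G} (hd : d ∈ D) (he : e ∈ D) (h4 : orderOf (d * e) = 4) : pt d = pt e := by
  by_contra hne
  have := h.odd d hd e he hne
  rw [h4] at this
  exact absurd this (by decide)

theorem finite_points : Finite Ω :=
  Finite.of_surjective pt fun a => (h.surj a).imp fun _ hd => hd.2

theorem one_class {d e : G} (hd : d ∈ D) (he : e ∈ D) : ∃ g : G, g * d * g⁻¹ = e := by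
  have key : ∀ {d e : G}, d ∈ D → e ∈ D → pt d ≠ pt e → ∃ g : G, g * d * g⁻¹ = e := by
    intro d e hd he hne
    obtain ⟨m, hm, hmde, -⟩ := h.exists_middle hd he (h.odd d hd e he hne)
    exact ⟨m, by rw [h.inv_eq hm, hmde]⟩
  by_cases hne : pt d = pt e
  · obtain ⟨b, hb⟩ := h.exists_ne (pt d)
    obtain ⟨f, hf, rfl⟩ := h.surj b
    obtain ⟨g₁, hg₁⟩ := key hd hf hb.symm
    obtain ⟨g₂, hg₂⟩ := key hf he (hne ▸ hb)
    exact ⟨g₂ * g₁, by rw [← hg₂, ← hg₁]; group⟩
  · exact key hd he hne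

theorem trans (a b : Ω) : ∃ g : G, g • a = b := by
  obtain ⟨d, hd, rfl⟩ := h.surj a
  obtain ⟨e, he, rfl⟩ := h.surj b
  obtain ⟨g, hg⟩ := h.one_class hd he
  exact ⟨g, by rw [← hg, h.equiv d hd]⟩

theorem exists_tri {a : G} (ha : a ∈ D) : ∃ b, RootInv.Tri D a b := by
  obtain ⟨a₀, b₀, ha₀, hb₀, hc, hab⟩ := h.tri
  obtain ⟨g, rfl⟩ := h.one_class ha₀ ha
  refine ⟨g * b₀ * g⁻¹, ha, h.conj_mem hb₀ g, ?_, ?_⟩
  · calc g * a₀ * g⁻¹ * (g * b₀ * g⁻¹) = g * (a₀ * b₀) * g⁻¹ := by group
      _ = g * b₀ * g⁻¹ * (g * a₀ * g⁻¹) := by rw [hc]; group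
  · rw [show g * a₀ * g⁻¹ * (g * b₀ * g⁻¹) = g * (a₀ * b₀) * g⁻¹ by group]
    exact h.conj_mem hab g

/-- The swapper of two members is unique. -/
theorem middle_unique {x m m' : G} (hx : x ∈ D) (hm : m ∈ D) (hm' : m' ∈ D) (h1 : pt m ≠ pt x)
    (h2 : pt m' ≠ pt x) (he : m * x * m = m' * x * m') : m = m' := by
  let S := {e : G // e ∈ D ∧ pt e ≠ pt x}
  let f : S → S := fun e => ⟨e.1 * x * e.1, h.conj_mem' hx e.2.1, by
    rw [h.pt_conj hx e.2.1]; exact h.smul_ne e.2.1 e.2.2⟩
  have hsur : Function.Surjective f := by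
    rintro ⟨y, hy, hne⟩
    obtain ⟨c, hc, hcxy, -⟩ := h.exists_middle hx hy (h.odd x hx y hy hne.symm)
    refine ⟨⟨c, hc, fun e => hne ?_⟩, Subtype.ext hcxy⟩
    rw [← hcxy, h.pt_conj hx hc, ← e, h.fix_pt hc]
  exact congrArg Subtype.val ((Finite.injective_iff_surjective.2 hsur) (a₁ := ⟨m, hm, h1⟩) (a₂ := ⟨m', hm', h2⟩)
    (Subtype.ext he))

theorem card_mems_eq (a b : Ω) : Nat.card (mems D pt a) = Nat.card (mems D pt b) := by
  obtain ⟨g, rfl⟩ := h.trans a b
  refine Nat.card_eq_of_bijective (fun d => ⟨g * d.1 * g⁻¹, h.conj_mem d.2.1 g, by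
    rw [h.equiv d.1 d.2.1, d.2.2]⟩) ⟨fun d d' e => ?_, fun d => ?_⟩
  · exact Subtype.ext (mul_left_cancel (mul_right_cancel (congrArg Subtype.val e)))
  · refine ⟨⟨g⁻¹ * d.1 * g⁻¹⁻¹, h.conj_mem d.2.1 _, ?_⟩, Subtype.ext (by group)⟩
    rw [h.equiv d.1 d.2.1, d.2.2, inv_smul_smul]

/-- The number of points is odd. -/
theorem odd_points : Odd (Nat.card Ω) := by
  haveI := h.finite_points
  haveI := Fintype.ofFinite Ω
  classical
  obtain ⟨d, _, hd, -⟩ := id h.tri
  rw [← Nat.not_even_iff_odd]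
  intro hev
  let σ : Equiv.Perm Ω := MulAction.toPerm d
  have hσ : σ ^ 2 ^ 1 = 1 := by
    ext q; simp [σ, pow_two, h.smul_smul_self hd]
  obtain ⟨b, hb, hne⟩ := Equiv.Perm.exists_fixed_point_of_prime' (p := 2) (n := 1) (hp := ⟨Nat.prime_two⟩)
    (by rw [← Nat.card_eq_fintype_card]; exact hev.two_dvd) (σ := σ) hσ (a := pt d) (h.fix_pt hd)
  exact hne (h.fix_eq hd hb).symm

/-- With an even number of members at a point, for each point a member has a commuting partner. -/
theorem exists_partner {t : G} (ht : t ∈ D) {q : Ω} (hq : pt t ≠ q) (hk : Even (Nat.card (mems D pt q))) :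
    ∃ s ∈ D, Commute t s ∧ s ≠ t ∧ t * s ∉ D ∧ (t * s) • q = q := by
  classical
  let X := {m : G // m ∈ D ∧ m • q = t • q}
  have hne := h.smul_ne ht hq
  obtain ⟨x, hx, hxq⟩ := h.surj q
  have hmx : ∀ m : X, pt m.1 ≠ pt x := fun m e => by
    have h1 := h.fix_pt m.2.1
    rw [e, hxq] at h1
    exact hne (m.2.2.symm.trans h1)
  have hX : Nat.card X = Nat.card (mems D pt (t • q)) := by
    refine Nat.card_eq_of_bijective (fun m => ⟨m.1 * x * m.1, h.conj_mem' hx m.2.1, by
      rw [h.pt_conj hx m.2.1, hxq, m.2.2]⟩) ⟨fun m m' e => ?_, fun y => ?_⟩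
    · exact Subtype.ext (h.middle_unique hx m.2.1 m'.2.1 (hmx m) (hmx m') (congrArg Subtype.val e))
    · obtain ⟨c, hc, hcxy, -⟩ := h.exists_middle hx y.2.1 (h.odd x hx y.1 y.2.1 (by
        rw [hxq, y.2.2]; exact hne.symm))
      refine ⟨⟨c, hc, ?_⟩, Subtype.ext hcxy⟩
      rw [← hxq, ← h.pt_conj hx hc, hcxy, y.2.2, hxq]
  let f : X → X := fun m => ⟨t * m.1 * t, h.conj_mem' m.2.1 ht, by
    have : m.1 • (t • q) = q := (congrArg (m.1 • ·) m.2.2).symm.trans (h.smul_smul_self m.2.1 q)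
    rw [mul_smul, mul_smul, this]⟩
  have hff : ∀ m, f (f m) = m := fun m => Subtype.ext (by
    show t * (t * m.1 * t) * t = m.1
    simp only [mul_assoc, h.cancel ht, h.sq ht, mul_one])
  let σ : Equiv.Perm X := ⟨f, f, hff, hff⟩
  haveI := Fintype.ofFinite X
  have hσ : σ ^ 2 ^ 1 = 1 := by
    ext m; simp [σ, pow_two, hff]
  obtain ⟨b, hb, hbne⟩ := Equiv.Perm.exists_fixed_point_of_prime' (p := 2) (n := 1) (hp := ⟨Nat.prime_two⟩)
    (by rw [← Nat.card_eq_fintype_card, hX, h.card_mems_eq (t • q) q]; exact hk.two_dvd) (σ := σ) hσ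
    (a := ⟨t, ht, rfl⟩) (Subtype.ext (by show t * t * t = t; rw [h.sq ht, one_mul]))
  have hcb : Commute t b.1 := by
    have h1 : t * b.1 * t = b.1 := congrArg Subtype.val hb
    show t * b.1 = b.1 * t
    calc t * b.1 = t * b.1 * t * t := by rw [mul_assoc _ t t, h.sq ht, mul_one]
      _ = b.1 * t := by rw [h1]
  have hfix : (t * b.1) • q = q := by rw [mul_smul, b.2.2, h.smul_smul_self ht]
  refine ⟨b.1, b.2.1, hcb, fun e => hbne (Subtype.ext e), fun hD => hq ?_, hfix⟩
  rw [← h.fix_eq hD hfix]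
  exact h.pt_eq_of_commute ht hD ((Commute.refl t).mul_right hcb)

/-! ### Products of commuting members outside `D` -/

theorem ut_sq {u : G} {o : Ω} (hu : UT D pt u o) : u * u = 1 := by
  obtain ⟨a, b, ha, hb, -, hc, -, -, rfl⟩ := hu
  rw [← pow_two]
  exact RootInv.sq_eq_one_of_comm h.root ha hb hc

theorem ut_ne {u : G} {o : Ω} (hu : UT D pt u o) : u ≠ 1 := by
  obtain ⟨a, b, ha, hb, -, -, -, hne, rfl⟩ := hu
  intro e
  exact hne (by rw [eq_inv_of_mul_eq_one_left e, h.inv_eq hb])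

theorem ut_fix {u : G} {o : Ω} (hu : UT D pt u o) : u • o = o := by
  obtain ⟨a, b, ha, hb, rfl, hc, -, -, rfl⟩ := hu
  rw [mul_smul, h.smul_pt_of_commute ha hc.symm, h.fix_pt ha]

theorem ut_mem_closure {u : G} {o : Ω} (hu : UT D pt u o) : u ∈ Subgroup.closure (mems D pt o) := by
  obtain ⟨a, b, ha, hb, rfl, hc, -, -, rfl⟩ := hu
  exact mul_mem (Subgroup.subset_closure ⟨ha, rfl⟩) (Subgroup.subset_closure ⟨hb, (h.pt_eq_of_commute ha hb hc).symm⟩)

theorem ut_conj {u : G} {o : Ω} (hu : UT D pt u o) (g : G) : UT D pt (g * u * g⁻¹) (g • o) := by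
  obtain ⟨a, b, ha, hb, rfl, hc, hD, hne, rfl⟩ := hu
  refine ⟨g * a * g⁻¹, g * b * g⁻¹, h.conj_mem ha g, h.conj_mem hb g, h.equiv a ha g, ?_, fun hab => hD ?_,
    fun e => hne (mul_left_cancel (mul_right_cancel e)), by group⟩
  · show g * a * g⁻¹ * (g * b * g⁻¹) = g * b * g⁻¹ * (g * a * g⁻¹)
    rw [show g * a * g⁻¹ * (g * b * g⁻¹) = g * (a * b) * g⁻¹ by group, hc.eq]; group
  · have := h.conj_mem hab g⁻¹
    rwa [show g⁻¹ * (g * a * g⁻¹ * (g * b * g⁻¹)) * g⁻¹⁻¹ = a * b by group] at this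

/-- The members commuting with such a product are at its point. -/
theorem ut_cent {u : G} {o : Ω} (hu : UT D pt u o) {e : G} (he : e ∈ D) (hc : Commute e u) : pt e = o := by
  obtain ⟨a, b, ha, hb, rfl, hab, hD, hne, rfl⟩ := hu
  by_contra hpe
  have hu2 : (a * b) * (a * b) = 1 := by rw [← pow_two]; exact RootInv.sq_eq_one_of_comm h.root ha hb hab
  have hua : Commute (a * b) a := Commute.mul_left (Commute.refl a) hab.symm
  have hcoe : Commute (e * a) (a * b) := Commute.mul_left hc hua.symm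
  have hu1 : a * b ≠ 1 := fun e1 => hne (by rw [eq_inv_of_mul_eq_one_left e1, h.inv_eq hb])
  have hu2' : orderOf (a * b) = 2 := orderOf_eq_prime (by rw [pow_two, hu2]) hu1
  have hodd := h.odd e he a ha hpe
  have hbe : Odd (orderOf (e * b)) := h.odd e he b hb (by rwa [← h.pt_eq_of_commute ha hb hab])
  rw [show e * b = e * a * (a * b) by rw [mul_assoc e a, h.cancel ha],
    hcoe.orderOf_mul_eq_mul_orderOf_of_coprime (by rw [hu2']; exact hodd.coprime_two_right), hu2'] at hbe
  exact Nat.not_even_iff_odd.2 hbe (by simp)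

theorem ut_smul {u : G} {o : Ω} (hu : UT D pt u o) {g : G} (hc : Commute g u) : g • o = o := by
  obtain ⟨a, b, ha, -, rfl, hab, -, -, rfl⟩ := id hu
  rw [← h.equiv a ha g]
  refine h.ut_cent hu (h.conj_mem ha g) ?_
  have h1 : Commute a (a * b) := (Commute.refl a).mul_right hab
  show g * a * g⁻¹ * (a * b) = a * b * (g * a * g⁻¹)
  have h2 : g⁻¹ * (a * b) = a * b * g⁻¹ := hc.inv_left.eq
  calc g * a * g⁻¹ * (a * b) = g * (a * (a * b)) * g⁻¹ := by rw [mul_assoc (g * a), h2]; group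
    _ = g * (a * b) * (a * g⁻¹) := by rw [h1.eq]; group
    _ = a * b * (g * a * g⁻¹) := by rw [hc.eq]; group

/-- At a further fixed point the members give products at that point fixing the first. -/
theorem ut_pair {u : G} {o p : Ω} (hu : UT D pt u o) (hp : u • p = p) (hpo : p ≠ o) {x : G} (hx : x ∈ D)
    (hxp : pt x = p) :
    UT D pt (x * (u * x * u)) p ∧ Commute (x * (u * x * u)) u ∧ Commute (x * (u * x * u)) x ∧
      (x * (u * x * u)) • o = o ∧ x * u * x = u * (x * (u * x * u)) ∧ u • (x • o) = x • o := by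
  have hu2 := h.ut_sq hu
  have hui : u⁻¹ = u := inv_eq_of_mul_eq_one_right hu2
  set y := u * x * u with hy
  have hyD : y ∈ D := by
    have := h.conj_mem hx u
    rwa [hui] at this
  have hyp : pt y = p := by
    have := h.equiv x hx u
    rw [hui] at this
    rw [this, hxp, hp]
  have huy : u * y * u = x := by
    rw [hy]; simp only [mul_assoc, hu2, mul_one]; rw [← mul_assoc u u, hu2, one_mul]
  have hxy : Commute x y := by
    rcases h.root.pair x hx y hyD with hc | hodd | ⟨h4, hD4⟩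
    · exact hc
    · exfalso
      obtain ⟨m, hm, -, hmu, -, hfix, -⟩ := h.exists_middle hx hyD hodd
      have h1 := h.ut_cent hu hm (hmu u hu2 hy.symm).symm
      have h2 : m • p = p := hfix p (hxp ▸ h.fix_pt hx) (hyp ▸ h.fix_pt hyD)
      exact hpo (by rw [← h.fix_eq hm h2, h1])
    · exfalso
      obtain ⟨htri, -, -, hsym⟩ := RootInv.tri_four h.root hx hyD h4
      have h1 : Commute ((x * y) ^ 2) u := by
        have h2 : u * (x * y) * u⁻¹ = y * x := by
          rw [hui]
          calc u * (x * y) * u = u * x * u * (u * y * u) := by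
                simp only [mul_assoc]; rw [← mul_assoc u u, hu2, one_mul]
            _ = y * x := by rw [huy]
        have h3 := conj_pow (a := u) (b := x * y) (i := 2)
        rw [h2, hsym] at h3
        exact (mul_inv_eq_iff_eq_mul.1 h3.symm).symm
      have h4' := h.pt_eq_of_commute hx htri.2.1 htri.2.2.1
      exact hpo (by rw [← hxp, h4', h.ut_cent hu hD4 h1])
  have hxu : x ≠ y := fun e => hpo (by
    rw [← hxp]
    refine h.ut_cent hu hx ?_
    show x * u = u * x
    calc x * u = y * u := by rw [← e]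
      _ = u * x := by rw [hy, mul_assoc, hu2, mul_one])
  have hxux : x * u * x = u * (x * y) := by
    rw [hxy.eq, hy]; simp only [mul_assoc]
    rw [← mul_assoc u u, hu2, one_mul]
  have hcv : Commute (x * y) u := by
    calc x * y * u = x * u * x := by rw [hy]; simp only [mul_assoc, hu2, mul_one]
      _ = u * (x * y) := hxux
  have hnD : x * y ∉ D := fun hD => hpo (by
    rw [← hxp, h.pt_eq_of_commute hx hD ((Commute.refl x).mul_right hxy), h.ut_cent hu hD hcv])
  have hv : UT D pt (x * y) p := ⟨x, y, hx, hyD, hxp, hxy, hnD, hxu, rfl⟩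
  have hw : UT D pt (x * u * x) (x • o) := by
    have := h.ut_conj hu x
    rwa [h.inv_eq hx] at this
  have hcw : Commute u (x * u * x) := by
    rw [hxux]; exact (Commute.refl u).mul_right hcv.symm
  exact ⟨hv, hcv, (Commute.refl x).mul_left hxy.symm, h.ut_smul hu hcv, hxux, h.ut_smul hw hcw⟩

/-- The fixed points of such a product are closed under the steps. -/
theorem ut_step {u : G} {o c d : Ω} (hu : UT D pt u o) (hc : u • c = c) (hs : Step D pt o c d) : u • d = d := by
  obtain ⟨hco, y, hy, hyc, rfl⟩ := hs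
  exact (h.ut_pair hu hc hco hy hyc).2.2.2.2.2

/-- Reachable points are fixed. -/
theorem ut_reach {u : G} {o p q : Ω} (hu : UT D pt u o) (hp : u • p = p)
    (hq : Relation.ReflTransGen (Step D pt o) p q) : u • q = q := by
  induction hq with
  | refl => exact hp
  | tail _ hs ih => exact h.ut_step hu ih hs

end Split

end CfsgLib.RootSplit
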