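import Cfsg.Agent.Lib.ThreeTrans.RootSplit.Basic
import Cfsg.Agent.Lib.Invol.AschCrit.CentModel
import Cfsg.Agent.Lib.Invol.AschCrit.Wrapper

/-!
Owner: helper27. Root involutions split over points: with an odd number of members at a point the criterion applies.
-/

set_option autoImplicit false
set_option linter.unusedSectionVars false

namespace CfsgLib.RootSplit

open Cfsg CfsgLib.ThreeTrans MulAction

universe u

variable {G : Type u} [Group G] [Finite G] {Ω : Type u} [MulAction G Ω] {D : Set G} {pt : G → Ω}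

namespace Split

variable (h : Split D pt) (hk : ∀ q : Ω, Odd (Nat.card (mems D pt q)))
include h hk

theorem odd_card : Odd (Nat.card D) := by
  classical
  haveI := h.finite_points
  haveI := Fintype.ofFinite Ω
  obtain ⟨d, _, hd, -⟩ := id h.tri
  have he : Nat.card D = Nat.card Ω * Nat.card (mems D pt (pt d)) := by
    have e : D ≃ Σ q : Ω, mems D pt q :=
      { toFun := fun x => ⟨pt x.1, x.1, x.2, rfl⟩
        invFun := fun x => ⟨x.2.1, x.2.2.1⟩
        left_inv := fun x => rfl
        right_inv := by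
          rintro ⟨q, x, hx, hq⟩
          subst hq
          rfl }
    rw [Nat.card_congr e, Nat.card_sigma]
    simp only [h.card_mems_eq _ (pt d), Finset.sum_const, Finset.card_univ, smul_eq_mul, Nat.card_eq_fintype_card]
  rw [he]
  exact h.odd_points.mul (hk _)

theorem exists_sylow : ∃ d ∈ D, ∃ S : Sylow 2 G, d ∈ (S : Subgroup G) ∧ ∀ s ∈ (S : Subgroup G), Commute d s := by
  haveI : Fact (Nat.Prime 2) := ⟨Nat.prime_two⟩
  obtain ⟨d, _, hd, -⟩ := id h.tri
  have hD : D = MulAction.orbit (ConjAct G) d := by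
    ext e
    rw [ConjAct.mem_orbit_conjAct]
    refine ⟨fun he => (isConj_iff.mpr (h.one_class hd he)).symm, fun he => ?_⟩
    obtain ⟨g, rfl⟩ := isConj_iff.mp he.symm
    exact h.conj_mem hd g
  set C := Subgroup.centralizer ({d} : Set G) with hC
  have hCeq : C = (stabilizer (ConjAct G) d).map (ConjAct.ofConjAct (G := G)).toMonoidHom := by
    ext g
    rw [hC, Subgroup.mem_centralizer_singleton_iff]
    refine ⟨fun hg => ⟨ConjAct.toConjAct g, ?_, ConjAct.ofConjAct_toConjAct g⟩, ?_⟩
    · show ConjAct.toConjAct g • d = d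
      rw [ConjAct.toConjAct_smul, hg, mul_inv_cancel_right]
    · rintro ⟨c, hc, rfl⟩
      have h1 : ConjAct.ofConjAct c * d * (ConjAct.ofConjAct c)⁻¹ = d := by
        rw [← ConjAct.toConjAct_smul, ConjAct.toConjAct_ofConjAct]; exact hc
      exact mul_inv_eq_iff_eq_mul.1 h1
  have hCidx : ¬ 2 ∣ C.index := by
    have he : C.index = (stabilizer (ConjAct G) d).index := by
      rw [hCeq]; exact Subgroup.index_map_equiv _ (ConjAct.ofConjAct (G := G))
    rw [he, Subgroup.index, ← Nat.card_congr (orbitEquivQuotientStabilizer _ d), ← hD]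
    exact Nat.two_dvd_ne_zero.2 (Nat.odd_iff.1 (h.odd_card hk))
  obtain ⟨S⟩ := (inferInstance : Nonempty (Sylow 2 C))
  have hp : IsPGroup 2 ((S : Subgroup C).map C.subtype) := S.isPGroup'.map _
  have hidx : ¬ 2 ∣ ((S : Subgroup C).map C.subtype).index := by
    rw [Subgroup.index_map_subtype]
    exact fun hd2 => (Nat.Prime.dvd_mul Nat.prime_two).1 hd2 |>.elim S.not_dvd_index hCidx
  have hcomm : ∀ s ∈ (S : Subgroup C).map C.subtype, Commute d s := by
    rintro _ ⟨s, -, rfl⟩
    exact (Subgroup.mem_centralizer_singleton_iff.1 s.2).symm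
  refine ⟨d, hd, hp.toSylow hidx, ?_, hcomm⟩
  set P := hp.toSylow hidx
  have hP : ((P : Subgroup G)) = (S : Subgroup C).map C.subtype := rfl
  have hz : IsPGroup 2 (Subgroup.zpowers d) := IsPGroup.of_card (n := 1) (by
    rw [Nat.card_zpowers, h.root.orderOf_eq d hd, pow_one])
  have hn : Subgroup.zpowers d ≤ Subgroup.normalizer (P : Set G) := by
    refine le_trans (Subgroup.zpowers_le.2 ?_) (Subgroup.centralizer_le_normalizer _)
    exact Subgroup.mem_centralizer_iff.2 fun s hs => (hcomm s hs).eq.symm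
  have h1 : d ∈ Subgroup.zpowers d ⊓ Subgroup.normalizer (P : Set G) :=
    ⟨Subgroup.mem_zpowers d, hn (Subgroup.mem_zpowers d)⟩
  rw [hz.inf_normalizer_sylow P] at h1
  exact h1.2

theorem crit : AschCrit.Crit Ω D where
  trans := h.trans
  exists_ne := h.exists_ne
  inv := h.root.orderOf_eq
  conj := h.root.conj_mem
  one_class := fun _ hd _ he => h.one_class hd he
  fix_exists := fun d hd => ⟨pt d, h.fix_pt hd⟩
  fix_unique := fun d hd x y hx hy => (h.fix_eq hd hx).symm.trans (h.fix_eq hd hy)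
  central := h.exists_sylow hk
  cent := by
    intro d hd e he hne hc g hg x hx
    obtain rfl := h.fix_eq hd hx
    by_cases hD : d * e ∈ D
    · rw [h.pt_eq_of_commute hd hD ((Commute.refl d).mul_right hc)]
      exact h.smul_pt_of_commute hD hg
    · exact h.ut_smul ⟨d, e, hd, he, rfl, hc, hD, hne, rfl⟩ hg

variable (hmain : AschCrit.Main.{u}) (hf : ∀ g : G, (∀ q : Ω, g • q = q) → g = 1)
include hmain hf

theorem noMulti : AschCrit.NoMulti G Ω := hmain G Ω D (h.crit hk) hf h.root.generates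

theorem mems_eq_involutions {a : Ω} {t : G} :
    (t ∈ D ∧ pt t = a) ↔ t ∈ Cfsg.involutionsIn (stabilizer G a : Set G) := by
  constructor
  · rintro ⟨ht, rfl⟩
    exact ⟨h.fix_pt ht, h.not_one ht, h.sq ht⟩
  · rintro ⟨hta, ht1, ht2⟩
    have ho : orderOf t = 2 := orderOf_eq_prime (by rw [pow_two, ht2]) ht1
    have htD := (h.crit hk).mem_of_noMulti hf (h.noMulti hk hmain hf) ho (show t • a = a from hta)
    exact ⟨htD, h.fix_eq htD hta⟩

theorem not_rankOne : ¬ Bender.RankOne G := by
  obtain ⟨a, b, htri⟩ := h.tri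
  exact fun hr => RootInv.Tri.ne h.root htri
    (hr a b (h.root.orderOf_eq a htri.1) (h.root.orderOf_eq b htri.2.1) htri.2.2.1)

theorem concl_of_odd : Concl D pt := by
  classical
  haveI := h.finite_points
  have hn := h.noMulti hk hmain hf
  have hJ := fun (a : Ω) (t : G) => h.mems_eq_involutions hk hmain hf (a := a) (t := t)
  have hset := fun a : Ω => (h.crit hk).exists_setup hf hn (h.not_rankOne hk hmain hf) a
  refine ⟨fun t ht p hp => ?_, fun d hd e he hde => ?_, fun a z hz => ?_⟩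
  · set o := pt t with ho
    obtain ⟨h2, Q, hQ, hsetup, hsw⟩ := hset o
    obtain ⟨τ, hτ, hτp⟩ := hsw p hp
    have hS := hsetup τ (h.sq hτ) (by rw [hτp]; exact hp)
    let R := Relation.ReflTransGen (Step D pt o)
    have hequi : ∀ g : G, g • o = o → ∀ c d, R c d → R (g • c) (g • d) := by
      intro g hg c d hcd
      refine hcd.lift (g • ·) ?_
      rintro c' d' ⟨hco, y, hy, rfl, rfl⟩
      refine ⟨fun e => hco (smul_left_cancel g (e.trans hg.symm)), g * y * g⁻¹, h.conj_mem hy g,
        h.equiv y hy g, ?_⟩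
      rw [mul_smul, mul_smul, inv_smul_eq_iff.2 hg.symm]
    let M : Submonoid G :=
      { carrier := {g | g • o = o ∧ R p (g • p)}
        one_mem' := ⟨one_smul _ _, by rw [one_smul]⟩
        mul_mem' := by
          rintro g g' ⟨hg, hgp⟩ ⟨hg', hgp'⟩
          refine ⟨by rw [mul_smul, hg', hg], ?_⟩
          rw [mul_smul]
          exact hgp.trans (hequi g hg _ _ hgp') }
    have hMinv : ∀ g ∈ M, g⁻¹ ∈ M := fun g hg => by
      rw [inv_eq_of_mul_eq_one_left (show g ^ (orderOf g - 1) * g = 1 by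
        rw [← pow_succ, Nat.sub_add_cancel (orderOf_pos g), pow_orderOf_eq_one])]
      exact pow_mem hg _
    let P : Subgroup G := { M with inv_mem' := fun {g} hg => hMinv g hg }
    have hTP : stabilizer G o ⊓ stabilizer G (τ • o) ≤ P := fun g hg => ⟨hg.1, by
      rw [show g • p = p by rw [← hτp]; exact hg.2]⟩
    -- a first step
    obtain ⟨y, hy, hyp⟩ := h.surj p
    have hstep : Step D pt o p (y • o) := ⟨hp, y, hy, hyp, rfl⟩
    have hbo : y • o ≠ o := h.smul_ne hy (hyp ▸ hp)
    have hbp : y • o ≠ p := fun e => hp (by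
      have h1 := congrArg (y • ·) e
      simp only [h.smul_smul_self hy] at h1
      rw [h1, ← hyp, h.fix_pt hy])
    obtain ⟨g, hgo, hgp⟩ := Lie.RankOne.pairs hS (b := o) (c := p) (b' := o) (c' := y • o) hp.symm hbo.symm
    have hgP : g ∈ P := ⟨hgo, by rw [hgp]; exact Relation.ReflTransGen.single hstep⟩
    have hmem : g ∈ Q ⊔ (stabilizer G o ⊓ stabilizer G (τ • o)) := by
      rw [hS.sup_eq]; exact hgo
    rw [sup_comm, ← SetLike.mem_coe, Subgroup.coe_mul_of_left_le_normalizer_right, Set.mem_mul] at hmem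
    swap
    · intro x hx
      refine Subgroup.mem_normalizer_iff.2 fun w => ⟨fun hw => hS.conj_mem x hx.1 w hw, fun hw => ?_⟩
      have := hS.conj_mem x⁻¹ (inv_mem hx.1) _ hw
      rwa [inv_inv, show x⁻¹ * (x * w * x⁻¹) * x = w by group] at this
    obtain ⟨c, hc, q, hq, rfl⟩ := hmem
    rw [SetLike.mem_coe] at hc hq
    have hqP : q ∈ P := by
      have := mul_mem (inv_mem (hTP hc)) hgP
      rwa [inv_mul_cancel_left] at this
    have hq1 : q ≠ 1 := fun e => hbp (by
      rw [← hgp, e, mul_one, ← hτp]; exact hc.2)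
    -- an involution of `P` in `Q`
    obtain ⟨j, hj⟩ := IsPGroup.iff_orderOf.1 hQ ⟨q, hq⟩
    rw [Subgroup.orderOf_mk] at hj
    have hj0 : j ≠ 0 := fun e => hq1 (orderOf_eq_one_iff.1 (by rw [hj, e, pow_zero]))
    set t₀ := q ^ 2 ^ (j - 1) with ht₀
    have ht₀o : orderOf t₀ = 2 := by
      rw [ht₀, orderOf_pow' _ (by positivity), hj, Nat.gcd_eq_right (pow_dvd_pow 2 (Nat.sub_le j 1)),
        Nat.pow_div (Nat.sub_le j 1) two_pos, show j - (j - 1) = 1 by omega, pow_one]
    have ht₀J : t₀ ∈ Cfsg.involutionsIn (stabilizer G o : Set G) :=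
      ⟨pow_mem (hS.le hq) _, fun e => by rw [e, orderOf_one] at ht₀o; omega,
        by rw [← pow_two, ← ht₀o, pow_orderOf_eq_one]⟩
    obtain ⟨k, ⟨hkK, hkt⟩, -⟩ := Lie.RankOne.exists_unique_K hS ht₀J ((hJ o t).1 ⟨ht, rfl⟩)
    have htP : t ∈ P := by
      rw [← hkt]
      exact mul_mem (mul_mem (inv_mem (hTP hkK.1)) (pow_mem hqP _)) (hTP hkK.1)
    exact htP.2
  · obtain ⟨h2, Q, -, hsetup, hsw⟩ := hset (pt d)
    obtain ⟨b, hb⟩ := h.exists_ne (pt d)
    obtain ⟨τ, hτ, hτb⟩ := hsw b hb
    have hS := hsetup τ (h.sq hτ) (by rw [hτb]; exact hb)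
    haveI : FaithfulSMul G Ω := faithfulSMul_iff.2 hf
    exact Lie.RankOne.J_central hS h2 ((hJ _ d).1 ⟨hd, rfl⟩)
      (Lie.RankOne.J_mem_Q hS ((hJ _ e).1 ⟨he, hde.symm⟩))
  · have hclique : ∀ d ∈ D, ∀ e ∈ D, pt d = pt e → Commute d e := by
      intro d hd e he hde
      obtain ⟨h2, Q, -, hsetup, hsw⟩ := hset (pt d)
      obtain ⟨b, hb⟩ := h.exists_ne (pt d)
      obtain ⟨τ, hτ, hτb⟩ := hsw b hb
      haveI : FaithfulSMul G Ω := faithfulSMul_iff.2 hf
      exact Lie.RankOne.J_central (hsetup τ (h.sq hτ) (by rw [hτb]; exact hb)) h2 ((hJ _ d).1 ⟨hd, rfl⟩)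
        (Lie.RankOne.J_mem_Q (hsetup τ (h.sq hτ) (by rw [hτb]; exact hb)) ((hJ _ e).1 ⟨he, hde.symm⟩))
    suffices H : z = 1 ∨ z ∈ mems D pt a by
      rcases H with rfl | H
      · exact Or.inl (one_smul G)
      · exact Or.inr ⟨z, H, fun _ => rfl⟩
    induction hz using Subgroup.closure_induction with
    | mem y hy => exact Or.inr hy
    | one => exact Or.inl rfl
    | mul y y' _ _ hy hy' =>
      rcases hy with rfl | hy
      · rwa [one_mul]
      rcases hy' with rfl | hy'
      · rw [mul_one]; exact Or.inr hy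
      by_cases hyy : y = y'
      · exact Or.inl (by rw [hyy, h.sq hy'.1])
      have hc := hclique y hy.1 y' hy'.1 (hy.2.trans hy'.2.symm)
      have hD := (h.crit hk).commMul hf y hy.1 y' hy'.1 hyy hc
      exact Or.inr ⟨hD, by rw [← h.pt_eq_of_commute hy.1 hD ((Commute.refl y).mul_right hc), hy.2]⟩
    | inv y _ hy =>
      rcases hy with rfl | hy
      · exact Or.inl inv_one
      · rw [h.inv_eq hy.1]; exact Or.inr hy

theorem stronglyEmbedded (a : Ω) : Cfsg.IsStronglyEmbedded (stabilizer G a) :=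
  (h.crit hk).stronglyEmbedded (h.noMulti hk hmain hf) a

end Split

end CfsgLib.RootSplit
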