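import Cfsg.Agent.Lib.ThreeTrans.RootSplit.Even
import Cfsg.Agent.Lib.ThreeTrans.RootSplit.Odd
import Cfsg.Agent.Lib.ThreeTrans.RootInv

/-!
Owner: helper27. Root involutions split over points: the induction.
-/

set_option autoImplicit false
set_option linter.unusedSectionVars false

namespace CfsgLib.RootSplit

open Cfsg CfsgLib.ThreeTrans MulAction

universe u

variable {G : Type u} [Group G] [Finite G] {Ω : Type u} [MulAction G Ω] {D : Set G} {pt : G → Ω}

/-- The point map of the image in the permutations. -/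
noncomputable def imgPt (D : Set G) (pt : G → Ω) (x : (toPermHom G Ω).range) : Ω :=
  pt (Function.invFunOn (toPermHom G Ω).rangeRestrict D x)

namespace Split

variable (h : Split D pt)
include h

/-- A faithful split group is handled by the two cases. -/
theorem concl_of_faithful (hmain : AschCrit.Main.{u}) (hf : ∀ g : G, (∀ q : Ω, g • q = q) → g = 1)
    (IH : Below.{u} (Nat.card G)) : Concl D pt ∧ ∀ q : Ω, Odd (Nat.card (mems D pt q)) := by
  obtain ⟨d, _, hd, -⟩ := id h.tri
  rcases Nat.even_or_odd (Nat.card (mems D pt (pt d))) with he | ho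
  · exact (h.false_of_even hf IH fun q => by rw [h.card_mems_eq q (pt d)]; exact he).elim
  · have hk : ∀ q : Ω, Odd (Nat.card (mems D pt q)) := fun q => by rw [h.card_mems_eq q (pt d)]; exact ho
    exact ⟨h.concl_of_odd hk hmain hf, hk⟩

/-- A member acts nontrivially. -/
theorem exists_moved {d : G} (hd : d ∈ D) : ∃ q : Ω, d • q ≠ q :=
  let ⟨q, hq⟩ := h.exists_ne (pt d); ⟨q, h.smul_ne hd hq.symm⟩

theorem smul_eq_imp_pt_eq {d e : G} (hd : d ∈ D) (he : e ∈ D) (hde : ∀ q : Ω, d • q = e • q) : pt d = pt e :=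
  h.fix_eq hd (by rw [hde, h.fix_pt he])

theorem imgPt_eq {d : G} (hd : d ∈ D) : imgPt D pt ((toPermHom G Ω).rangeRestrict d) = pt d :=
  h.smul_eq_imp_pt_eq (Function.invFunOn_mem ⟨d, hd, rfl⟩) hd fun q =>
    congrArg (fun f : (toPermHom G Ω).range => (f : Equiv.Perm Ω) q)
      (Function.invFunOn_eq (f := (toPermHom G Ω).rangeRestrict) ⟨d, hd, rfl⟩)

theorem img_smul (g : G) (q : Ω) : ((toPermHom G Ω).rangeRestrict g) • q = g • q := rfl

/-- The group induced on the points is split. -/
theorem image : Split ((toPermHom G Ω).rangeRestrict '' D) (imgPt D pt) := by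
  set π := (toPermHom G Ω).rangeRestrict with hπ
  have hsur : Function.Surjective π := MonoidHom.rangeRestrict_surjective _
  have hord : ∀ d ∈ D, orderOf (π d) = 2 := fun d hd => by
    refine orderOf_eq_prime (by rw [← map_pow, pow_two, h.sq hd, map_one]) fun e => ?_
    obtain ⟨q, hq⟩ := h.exists_moved hd
    refine hq ?_
    rw [← h.img_smul, ← hπ, e, one_smul]
  refine ⟨⟨fun x hx => ?_, ?_, ?_, ?_⟩, ?_, ?_, fun q => ?_, h.exists_ne, ?_⟩
  · obtain ⟨d, hd, rfl⟩ := hx; exact hord d hd
  · rw [← MonoidHom.map_closure, h.root.generates, Subgroup.map_top_of_surjective _ hsur]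
  · rintro _ ⟨d, hd, rfl⟩ g
    obtain ⟨g, rfl⟩ := hsur g
    exact ⟨g * d * g⁻¹, h.conj_mem hd g, by simp⟩
  · rintro _ ⟨d, hd, rfl⟩ _ ⟨e, he, rfl⟩
    rw [← map_mul, ← map_mul, ← map_pow]
    rcases h.root.pair d hd e he with hc | ho | ⟨h4, hD4⟩
    · exact Or.inl (congrArg π hc)
    · exact Or.inr (Or.inl (ho.of_dvd_nat (orderOf_map_dvd π _)))
    · by_cases h2 : π (d * e) ^ 2 = 1
      · refine Or.inl ?_
        have h3 : (π (d * e))⁻¹ = π (d * e) := inv_eq_of_mul_eq_one_right (by rw [← pow_two]; exact h2)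
        rw [← map_inv, RootInv.mul_inv_rev' h.root hd he] at h3
        exact h3.symm
      · refine Or.inr (Or.inr ⟨?_, (d * e) ^ 2, hD4, rfl⟩)
        have hdvd : orderOf (π (d * e)) ∣ 2 ^ 2 := (orderOf_map_dvd π _).trans (by rw [h4]; norm_num)
        obtain ⟨i, hi, hi'⟩ := (Nat.dvd_prime_pow Nat.prime_two).1 hdvd
        rcases Nat.lt_or_ge i 2 with hlt | hge
        · exact absurd (orderOf_dvd_iff_pow_eq_one.1 (hi' ▸ (by interval_cases i <;> norm_num))) h2
        · rw [hi', show i = 2 by omega]; norm_num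
  · rintro _ ⟨d, hd, rfl⟩ g
    obtain ⟨g, rfl⟩ := hsur g
    rw [← map_inv, ← map_mul, ← map_mul, h.imgPt_eq (h.conj_mem hd g), h.imgPt_eq hd, h.equiv d hd g, h.img_smul]
  · rintro _ ⟨d, hd, rfl⟩ _ ⟨e, he, rfl⟩ hne
    rw [h.imgPt_eq hd, h.imgPt_eq he] at hne
    rw [← map_mul]
    exact (h.odd d hd e he hne).of_dvd_nat (orderOf_map_dvd π _)
  · obtain ⟨d, hd, rfl⟩ := h.surj q
    exact ⟨π d, ⟨d, hd, rfl⟩, h.imgPt_eq hd⟩
  · obtain ⟨a, b, ha, hb, hc, hab⟩ := h.tri
    exact ⟨π a, π b, ⟨a, ha, rfl⟩, ⟨b, hb, rfl⟩, by rw [← map_mul, hc, map_mul], by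
      rw [← map_mul]; exact ⟨a * b, hab, rfl⟩⟩

/-- The conclusion passes back from the group induced on the points. -/
theorem concl_of_image (hC : Concl ((toPermHom G Ω).rangeRestrict '' D) (imgPt D pt)) : Concl D pt := by
  set π := (toPermHom G Ω).rangeRestrict with hπ
  haveI : Finite (toPermHom G Ω).range := Finite.of_surjective π (MonoidHom.rangeRestrict_surjective _)
  refine ⟨fun t ht p hp => ?_, fun d hd e he hde => ?_, fun a z hz => ?_⟩
  · have := hC.reach (π t) ⟨t, ht, rfl⟩ p (by rwa [h.imgPt_eq ht])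
    rw [h.imgPt_eq ht, h.img_smul] at this
    refine Relation.ReflTransGen.mono ?_ _ _ this
    rintro c c' ⟨hco, _, ⟨y, hy, rfl⟩, hyc, hyd⟩
    exact ⟨hco, y, hy, (h.imgPt_eq hy).symm.trans hyc, by rwa [h.img_smul] at hyd⟩
  · have hcom : π d * π e = π e * π d :=
      (hC.clique _ ⟨d, hd, rfl⟩ _ ⟨e, he, rfl⟩ (by rw [h.imgPt_eq hd, h.imgPt_eq he, hde])).eq
    have hsq : π ((d * e) ^ 2) = 1 := by
      rw [map_pow, map_mul, pow_two]
      nth_rewrite 2 [hcom]
      rw [mul_assoc, ← mul_assoc (π e), ← map_mul, h.sq he, map_one, one_mul, ← map_mul, h.sq hd, map_one]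
    have hno : ∀ c ∈ D, π c ≠ 1 := fun c hc e1 => by
      obtain ⟨q, hq⟩ := h.exists_moved hc
      exact hq (by rw [← h.img_smul, ← hπ, e1, one_smul])
    rcases h.root.pair d hd e he with hc | ho | ⟨-, hD4⟩
    · exact hc
    · by_contra hne
      have hone : π (d * e) = 1 := RootInv.eq_one_of_odd_of_pow (k := 1)
        (ho.of_dvd_nat (orderOf_map_dvd π _)) (by rw [pow_one, ← map_pow, hsq])
      have hx : d ∈ oddPartners D e := ⟨hd, fun e1 => hne (e1 ▸ Commute.refl d), by
        rw [RootInv.orderOf_symm h.root hd he]; exact ho⟩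
      obtain ⟨b, htri⟩ := h.exists_tri he
      have h1 := RootInv.Tri.third h.root (RootInv.Tri.symm h.root htri)
      have e1 : b * (b * e) = e := h.cancel htri.2.1 e
      have key : ∀ y ∈ D, y * e ∈ D → d ∈ oddPartners D y → False := by
        intro y hy hye hxy
        have hed : π d = π e := by
          rw [map_mul] at hone
          rw [eq_inv_of_mul_eq_one_left hone, ← map_inv, h.inv_eq he]
        have e2 : π (y * d) = π (y * e) := by rw [map_mul, hed, map_mul]
        refine hno _ hye (RootInv.eq_one_of_odd_of_pow (k := 1)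
          (e2 ▸ hxy.2.2.of_dvd_nat (orderOf_map_dvd π _)) ?_)
        rw [pow_one, pow_two, ← map_mul, h.sq hye, map_one]
      rcases RootInv.T1 h.root h1 (by rw [e1]; exact hx) with h' | h'
      · exact key b htri.2.1 h1.2.1 h'
      · exact key (b * e) h1.2.1 (by rw [mul_assoc, h.sq he, mul_one]; exact htri.2.1) h'
    · exact absurd hsq (hno _ hD4)
  · have hz' : π z ∈ Subgroup.closure (mems (π '' D) (imgPt D pt) a) := by
      refine Subgroup.closure_mono ?_ ((MonoidHom.map_closure π _) ▸ Subgroup.mem_map_of_mem π hz)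
      rintro _ ⟨d, ⟨hd, hda⟩, rfl⟩
      exact ⟨⟨d, hd, rfl⟩, by rw [h.imgPt_eq hd, hda]⟩
    rcases hC.inner a _ hz' with h1 | ⟨_, ⟨⟨m, hm, rfl⟩, hma⟩, h1⟩
    · exact Or.inl fun q => (h.img_smul z q).symm.trans (h1 q)
    · exact Or.inr ⟨m, ⟨hm, (h.imgPt_eq hm).symm.trans hma⟩, fun q =>
        ((h.img_smul z q).symm.trans (h1 q)).trans (h.img_smul m q)⟩

theorem image_faithful : ∀ g : (toPermHom G Ω).range, (∀ q : Ω, g • q = q) → g = 1 :=
  fun _ hg => Subtype.ext (Equiv.ext hg)

theorem image_card_le : Nat.card (toPermHom G Ω).range ≤ Nat.card G :=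
  Nat.card_le_card_of_surjective _ (MonoidHom.rangeRestrict_surjective _)

end Split

/-- The induction step. -/
theorem below_all (hmain : AschCrit.Main.{u}) : ∀ N, Below.{u} N := by
  intro N
  induction N with
  | zero => intro H _ _ Γ _ D pt hlt; omega
  | succ N ih =>
    intro H _ _ Γ _ D pt hlt h
    haveI := h.finite_points
    have hle : Nat.card (toPermHom H Γ).range ≤ N := le_trans h.image_card_le (Nat.lt_succ_iff.1 hlt)
    exact h.concl_of_image ((h.image.concl_of_faithful hmain h.image_faithful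
      fun H' _ _ Γ' _ D' pt' hlt' h' => ih H' Γ' D' pt' (lt_of_lt_of_le hlt' hle) h').1)

/-- Root involutions split over points: the conclusion. -/
theorem Split.concl (hmain : AschCrit.Main.{u}) (h : Split D pt) : Concl D pt :=
  below_all hmain _ G Ω D pt (Nat.lt_succ_self _) h

/-- In a faithful split group the number of members at a point is odd and the stabilisers are strongly embedded. -/
theorem Split.stronglyEmbedded_of_faithful (hmain : AschCrit.Main.{u}) (h : Split D pt)
    (hf : ∀ g : G, (∀ q : Ω, g • q = q) → g = 1) (a : Ω) :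
    Cfsg.IsStronglyEmbedded (stabilizer G a) :=
  h.stronglyEmbedded (h.concl_of_faithful hmain hf (below_all hmain _)).2 hmain hf a

end CfsgLib.RootSplit
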