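import Cfsg.Agent.Lib.ThreeTrans.RootInv
import Mathlib.GroupTheory.GroupAction.Basic

/-!
Owner: helper27. Root involutions split over points: the setting and what the induction proves.
See `notes/root_inv_parity_helper27.md`.

Members at different points have a product of odd order; this is the case of a disconnected commuting graph, with
any union of components for a point.
-/

set_option autoImplicit false

namespace CfsgLib.RootSplit

open Cfsg CfsgLib.ThreeTrans

universe u v

variable {G : Type u} [Group G] {Ω : Type v} [MulAction G Ω]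

/-- A generating set of root involutions split over the points. -/
structure Split (D : Set G) (pt : G → Ω) : Prop where
  root : IsRootInvolutionSet D
  equiv : ∀ d ∈ D, ∀ g : G, pt (g * d * g⁻¹) = g • pt d
  odd : ∀ d ∈ D, ∀ e ∈ D, pt d ≠ pt e → Odd (orderOf (d * e))
  surj : ∀ a : Ω, ∃ d ∈ D, pt d = a
  exists_ne : ∀ a : Ω, ∃ b : Ω, b ≠ a
  tri : ∃ a b : G, RootInv.Tri D a b

/-- The members at a point. -/
def mems (D : Set G) (pt : G → Ω) (a : Ω) : Set G := {d | d ∈ D ∧ pt d = a}

/-- A product outside `D` of two commuting members at `o`. -/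
def UT (D : Set G) (pt : G → Ω) (u : G) (o : Ω) : Prop :=
  ∃ a b : G, a ∈ D ∧ b ∈ D ∧ pt a = o ∧ Commute a b ∧ a * b ∉ D ∧ a ≠ b ∧ u = a * b

/-- A step of the closure at `o`: from `c` to the image of `o` under a member at `c`. -/
def Step (D : Set G) (pt : G → Ω) (o c d : Ω) : Prop := c ≠ o ∧ ∃ y ∈ D, pt y = c ∧ y • o = d

/-- What is proved by induction. -/
structure Concl (D : Set G) (pt : G → Ω) : Prop where
  reach : ∀ t ∈ D, ∀ p : Ω, p ≠ pt t → Relation.ReflTransGen (Step D pt (pt t)) p (t • p)
  clique : ∀ d ∈ D, ∀ e ∈ D, pt d = pt e → Commute d e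
  inner : ∀ a : Ω, ∀ z ∈ Subgroup.closure (mems D pt a),
    (∀ q : Ω, z • q = q) ∨ ∃ m ∈ mems D pt a, ∀ q : Ω, z • q = m • q

/-- The induction hypothesis. -/
def Below (N : ℕ) : Prop :=
  ∀ (H : Type u) [Group H] [Finite H] (Γ : Type u) [MulAction H Γ] (D : Set H) (pt : H → Γ),
    Nat.card H < N → Split D pt → Concl D pt

end CfsgLib.RootSplit
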