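import Cfsg.Agent.Lib.ThreeTrans.RootSplit.Restrict

/-!
Owner: helper27. Root involutions split over points: a faithful group with an even number of members at a point is
impossible.
-/

set_option autoImplicit false
set_option linter.unusedSectionVars false

namespace CfsgLib.RootSplit

open Cfsg CfsgLib.ThreeTrans

universe u

variable {G : Type u} [Group G] [Finite G] {Ω : Type u} [MulAction G Ω] {D : Set G} {pt : G → Ω}

namespace Split

variable (h : Split D pt) (hf : ∀ g : G, (∀ q : Ω, g • q = q) → g = 1)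
  (IH : Below.{u} (Nat.card G)) (hk : ∀ q : Ω, Even (Nat.card (mems D pt q)))
include h hf IH hk

theorem exists_ut {o p : Ω} (hpo : p ≠ o) : ∃ u, UT D pt u o ∧ u • p = p := by
  obtain ⟨t, ht, rfl⟩ := h.surj o
  obtain ⟨s, hs, hc, hne, hD, hfix⟩ := h.exists_partner ht hpo.symm (hk p)
  exact ⟨t * s, ⟨t, s, ht, hs, rfl, hc, hD, hne.symm, rfl⟩, hfix⟩

theorem reach_of_even {t : G} (ht : t ∈ D) {p : Ω} (hpo : p ≠ pt t) :
    Relation.ReflTransGen (Step D pt (pt t)) p (t • p) := by
  obtain ⟨t₂, htri⟩ := h.exists_tri ht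
  obtain ⟨x, hx, hxp⟩ := h.surj p
  set o := pt t with ho
  obtain ⟨u₀, hu₀, hu₀p⟩ := h.exists_ut hf IH hk hpo
  obtain ⟨hv₀, -, hv₀x, hv₀o, -, -⟩ := h.ut_pair hu₀ hu₀p hpo hx hxp
  set T : Set G := {t, t₂, t * t₂} with hT
  have hTD : ∀ e ∈ T, e ∈ D ∧ pt e = o := by
    rintro e (rfl | rfl | rfl)
    · exact ⟨ht, rfl⟩
    · exact ⟨htri.2.1, (h.pt_eq_of_commute ht htri.2.1 htri.2.2.1).symm⟩
    · exact ⟨htri.2.2.2, (h.pt_eq_of_commute ht htri.2.2.2
        ((Commute.refl t).mul_right htri.2.2.1)).symm⟩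
  have hthird : ∀ e ∈ T, ∀ e' ∈ T, e' ≠ e → e' * e ∈ T := by
    obtain ⟨-, hb, hc, -⟩ := htri
    have m1 : t * t₂ ∈ T := Or.inr (Or.inr rfl)
    have m2 : t₂ * t ∈ T := Or.inr (Or.inr hc.symm)
    have m3 : t * (t * t₂) ∈ T := Or.inr (Or.inl (h.cancel ht _))
    have m4 : t * t₂ * t ∈ T := Or.inr (Or.inl (by rw [hc, mul_assoc, h.sq ht, mul_one]))
    have m5 : t₂ * (t * t₂) ∈ T := Or.inl (by rw [hc, h.cancel hb])
    have m6 : t * t₂ * t₂ ∈ T := Or.inl (by rw [mul_assoc, h.sq hb, mul_one])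
    intro e he e' he' hne
    rcases he with he | he | he <;> rcases he' with he' | he' | he' <;> rw [he, he'] at hne ⊢
    all_goals first
      | exact absurd rfl hne
      | assumption
  set C : Set G := {v | UT D pt v p ∧ v • o = o ∧ Commute v x} with hC
  set S : Set G := C ∪ {w | ∃ e ∈ T, ∃ v ∈ C, w = e * (v * e * v)} with hS
  set A : Set G := {t, t₂, x} with hA
  have hpair : ∀ e ∈ T, ∀ v ∈ C, UT D pt (e * (v * e * v)) o ∧ Commute (e * (v * e * v)) e ∧
      (e * (v * e * v)) • p = p ∧ e * v * e = v * (e * (v * e * v)) := by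
    intro e he v hv
    obtain ⟨h1, -, h3, h4, h5, -⟩ := h.ut_pair hv.1 hv.2.1 hpo.symm (hTD e he).1 (hTD e he).2
    exact ⟨h1, h3, h4, h5⟩
  have hSo : ∀ s ∈ S, s • o = o := by
    rintro s (hs | ⟨e, he, v, hv, rfl⟩)
    · exact hs.2.1
    · exact h.ut_fix (hpair e he v hv).1
  have hev : ∀ e ∈ T, ∀ v ∈ C, e * v * e ∈ Subgroup.closure S := fun e he v hv => by
    rw [(hpair e he v hv).2.2.2]
    exact mul_mem (Subgroup.subset_closure (Or.inl hv)) (Subgroup.subset_closure (Or.inr ⟨e, he, v, hv, rfl⟩))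
  have hnorm : ∀ g ∈ A, ∀ s ∈ S, g * s * g ∈ Subgroup.closure S := by
    have hTnorm : ∀ g ∈ T, ∀ s ∈ S, g * s * g ∈ Subgroup.closure S := by
      rintro g hg s (hs | ⟨e, he, v, hv, rfl⟩)
      · exact hev g hg s hs
      by_cases hge : g = e
      · subst hge
        rw [← (hpair g hg v hv).2.1.eq, mul_assoc, h.sq (hTD g hg).1, mul_one]
        exact Subgroup.subset_closure (Or.inr ⟨g, hg, v, hv, rfl⟩)
      · have hgd := h.sq (hTD g hg).1
        have hcm : Commute g e := by
          obtain ⟨hge1, hpe⟩ := hTD _ (hthird e he g hg hge)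
          have hge2 := h.sq hge1
          show g * e = e * g
          have h2 : (g * e)⁻¹ = g * e := inv_eq_of_mul_eq_one_right hge2
          rw [mul_inv_rev, h.inv_eq (hTD g hg).1, h.inv_eq (hTD e he).1] at h2
          exact h2.symm
        have hed := h.sq (hTD e he).1
        have key : g * (e * (v * e * v)) * g = (g * e) * v * (g * e) * (g * v * g) := by
          calc g * (e * (v * e * v)) * g = g * e * v * (e * v * g) := by simp only [mul_assoc]
            _ = g * e * v * (e * (g * g) * v * g) := by rw [hgd, mul_one]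
            _ = g * e * v * (e * g) * (g * v * g) := by simp only [mul_assoc]
            _ = _ := by rw [← hcm.eq]
        rw [key]
        exact mul_mem (hev _ (hthird e he g hg hge) v hv) (hev g hg v hv)
    rintro g (rfl | rfl | rfl) s hs
    · exact hTnorm _ (Or.inl rfl) s hs
    · exact hTnorm _ (Or.inr (Or.inl rfl)) s hs
    · rcases hs with hs | ⟨e, he, v, hv, rfl⟩
      · rw [← hs.2.2.eq, mul_assoc, h.sq hx, mul_one]
        exact Subgroup.subset_closure (Or.inl hs)
      · obtain ⟨hu, -, hup, -⟩ := hpair e he v hv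
        obtain ⟨h1, -, h3, h4, h5, -⟩ := h.ut_pair hu hup hpo hx hxp
        rw [h5]
        exact mul_mem (Subgroup.subset_closure (Or.inr ⟨e, he, v, hv, rfl⟩))
          (Subgroup.subset_closure (Or.inl ⟨h1, h4, h3⟩))
  have hlt : Subgroup.closure A ≠ ⊤ := fun htop => h.ut_ne hv₀ (h.eq_one_of_invariant hf htop (by
    rintro g (rfl | rfl | rfl)
    · exact h.sq ht
    · exact h.sq htri.2.1
    · exact h.sq hx) hSo hnorm (Or.inl ⟨hv₀, hv₀o, hv₀x⟩))
  have htA : t ∈ Subgroup.closure A := Subgroup.subset_closure (Or.inl rfl)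
  have hxA : x ∈ Subgroup.closure A := Subgroup.subset_closure (Or.inr (Or.inr rfl))
  haveI : Nonempty (h.points (Subgroup.closure A)) := ⟨⟨pt t, h.mem_points ht htA⟩⟩
  have hsp := h.restrict (S := A) (by
    rintro g (rfl | rfl | rfl)
    · exact ht
    · exact htri.2.1
    · exact hx) ht hx htA hxA (by rw [hxp]; exact hpo.symm) htri htA
      (Subgroup.subset_closure (Or.inr (Or.inl rfl)))
  have hcard : Nat.card (Subgroup.closure A) < Nat.card G := by
    refine lt_of_le_of_ne (Subgroup.card_le_card_group _) fun e => hlt ?_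
    exact Subgroup.eq_top_of_card_eq _ e
  have hsub := (IH _ _ _ _ hcard hsp).reach ⟨t, htA⟩ ht ⟨p, x, hx, hxA, hxp⟩ (fun e => hpo (by
    have := congrArg Subtype.val e
    rwa [h.subPt_coe _ (g := ⟨t, htA⟩) ht] at this))
  have := h.reach_of_sub _ hsub
  rwa [h.subPt_coe _ (g := ⟨t, htA⟩) ht, SubMulAction.val_smul] at this

/-- The group of the members at two points is proper. -/
theorem pair_proper {o p : Ω} (hpo : p ≠ o) : Subgroup.closure (mems D pt o ∪ mems D pt p) ≠ ⊤ := by
  intro htop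
  obtain ⟨u, hu, hup⟩ := h.exists_ut hf IH hk hpo
  set S : Set G := {w | (UT D pt w o ∧ w • p = p) ∨ (UT D pt w p ∧ w • o = o)} with hS
  have hS0 : ∀ a b : Ω, a ≠ b → ∀ t ∈ D, pt t = a →
      ∀ w, UT D pt w a → w • b = b → UT D pt (t * w * t) a ∧ (t * w * t) • b = b := by
    intro a b hab t ht hta w hw hwb
    refine ⟨?_, ?_⟩
    · have := h.ut_conj hw t
      rwa [h.inv_eq ht, ← hta, h.fix_pt ht, hta] at this
    · have hr := h.reach_of_even hf IH hk ht (p := b) (hta ▸ hab.symm)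
      rw [mul_smul, mul_smul, h.ut_reach hw hwb (hta ▸ hr), h.smul_smul_self ht]
  have hS1 : ∀ a b : Ω, a ≠ b → ∀ t ∈ D, pt t = a → ∀ v, UT D pt v b → v • a = a →
      ∃ w, UT D pt w a ∧ w • b = b ∧ t * v * t = v * w := by
    intro a b hab t ht hta v hv hva
    obtain ⟨h1, -, -, h4, h5, -⟩ := h.ut_pair hv hva hab ht hta
    exact ⟨_, h1, h4, h5⟩
  refine h.ut_ne hu (h.eq_one_of_invariant hf htop (fun g hg => h.sq (hg.elim And.left And.left))
    (o := o) (S := S) ?_ ?_ (Or.inl ⟨hu, hup⟩))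
  · rintro w (⟨hw, -⟩ | ⟨-, hw⟩)
    · exact h.ut_fix hw
    · exact hw
  · rintro g (⟨hg, hgo⟩ | ⟨hg, hgp⟩) w (⟨hw, hwp⟩ | ⟨hw, hwo⟩)
    · exact Subgroup.subset_closure (Or.inl (hS0 o p hpo.symm g hg hgo w hw hwp))
    · obtain ⟨w', h1, h2, h3⟩ := hS1 o p hpo.symm g hg hgo w hw hwo
      rw [h3]
      exact mul_mem (Subgroup.subset_closure (Or.inr ⟨hw, hwo⟩)) (Subgroup.subset_closure (Or.inl ⟨h1, h2⟩))
    · obtain ⟨w', h1, h2, h3⟩ := hS1 p o hpo g hg hgp w hw hwp
      rw [h3]
      exact mul_mem (Subgroup.subset_closure (Or.inl ⟨hw, hwp⟩)) (Subgroup.subset_closure (Or.inr ⟨h1, h2⟩))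
    · exact Subgroup.subset_closure (Or.inr (hS0 p o hpo g hg hgp w hw hwo))

/-- An involution of the group at `o` moving `p` has its middles at `o`. -/
theorem middle_at {o p : Ω} {z x m : G} (hz : z ∈ Subgroup.closure (mems D pt o)) (hzp : z • p ≠ p)
    (hx : x ∈ D) (hxp : pt x = p) (hm : m ∈ D) (hzm : Commute z m)
    (hmA : ∀ A : Subgroup G, x ∈ A → z * x * z⁻¹ ∈ A → m ∈ A) : pt m = o := by
  have hzo : z • o = o :=
    (Subgroup.closure_le (MulAction.stabilizer G o)).2
      (fun d (hd : d ∈ mems D pt o) => (hd.2 ▸ h.fix_pt hd.1 : d • o = o)) hz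
  have hpo : p ≠ o := fun e => hzp (e ▸ hzo)
  set A := mems D pt o ∪ mems D pt p with hA
  have hzA : z ∈ Subgroup.closure A := Subgroup.closure_mono Set.subset_union_left hz
  have hxA : x ∈ Subgroup.closure A := Subgroup.subset_closure (Or.inr ⟨hx, hxp⟩)
  have hmA' : m ∈ Subgroup.closure A := hmA _ hxA (mul_mem (mul_mem hzA hxA) (inv_mem hzA))
  obtain ⟨d, hd, hdo⟩ := h.surj o
  obtain ⟨b, htri⟩ := h.exists_tri hd
  have hbA : b ∈ Subgroup.closure A := Subgroup.subset_closure
    (Or.inl ⟨htri.2.1, (h.pt_eq_of_commute hd htri.2.1 htri.2.2.1).symm.trans hdo⟩)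
  have hdA : d ∈ Subgroup.closure A := Subgroup.subset_closure (Or.inl ⟨hd, hdo⟩)
  haveI : Nonempty (h.points (Subgroup.closure A)) := ⟨⟨pt d, h.mem_points hd hdA⟩⟩
  have hsp := h.restrict (S := A) (fun g hg => hg.elim And.left And.left) hd hx hdA hxA
    (by rw [hdo, hxp]; exact hpo.symm) htri hdA hbA
  have hcard : Nat.card (Subgroup.closure A) < Nat.card G :=
    lt_of_le_of_ne (Subgroup.card_le_card_group _) fun e =>
      h.pair_proper hf IH hk hpo (Subgroup.eq_top_of_card_eq _ e)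
  set o' : h.points (Subgroup.closure A) := ⟨o, d, hd, hdA, hdo⟩ with ho'
  have hz' : (⟨z, hzA⟩ : Subgroup.closure A) ∈ Subgroup.closure
      (mems {g : Subgroup.closure A | (g : G) ∈ D} (h.subPt (Subgroup.closure A)) o') := by
    have key : ∀ w ∈ Subgroup.closure (mems D pt o), ∀ hw : w ∈ Subgroup.closure A,
        (⟨w, hw⟩ : Subgroup.closure A) ∈ Subgroup.closure
          (mems {g : Subgroup.closure A | (g : G) ∈ D} (h.subPt (Subgroup.closure A)) o') := by
      intro w hw
      induction hw using Subgroup.closure_induction with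
      | mem y hy =>
        intro hyA
        exact Subgroup.subset_closure ⟨hy.1, Subtype.ext ((h.subPt_coe _ (g := ⟨y, hyA⟩) hy.1).trans hy.2)⟩
      | one => intro _; exact one_mem _
      | mul y y' h1 h2 hy hy' =>
        intro _
        exact mul_mem (hy (Subgroup.closure_mono Set.subset_union_left h1))
          (hy' (Subgroup.closure_mono Set.subset_union_left h2))
      | inv y h1 hy =>
        intro _
        exact inv_mem (hy (Subgroup.closure_mono Set.subset_union_left h1))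
    exact key z hz hzA
  rcases (IH _ _ _ _ hcard hsp).inner o' _ hz' with h1 | ⟨n, hn, h1⟩
  · exact absurd (congrArg Subtype.val (h1 ⟨p, x, hx, hxA, hxp⟩)) hzp
  · have h2 := congrArg Subtype.val (h1 ⟨pt m, h.mem_points hm hmA'⟩)
    rw [SubMulAction.val_smul, SubMulAction.val_smul] at h2
    have h3 : (n : G) • pt m = pt m := h2.symm.trans (h.smul_pt_of_commute hm hzm)
    rw [← h.fix_eq hn.1 h3]
    exact ((h.subPt_coe _ hn.1).symm.trans (congrArg Subtype.val hn.2))

/-- There is no faithful group with an even number of members at a point. -/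
theorem false_of_even : False := by
  obtain ⟨d, _, hd, -⟩ := id h.tri
  obtain ⟨q₀, hq₀⟩ := h.exists_ne (pt d)
  obtain ⟨u, hu, -⟩ := h.exists_ut hf IH hk hq₀
  set o := pt d with ho
  obtain ⟨q, hq⟩ : ∃ q : Ω, u • q ≠ q := by
    by_contra hcon
    push Not at hcon
    exact h.ut_ne hu (hf u hcon)
  obtain ⟨y, hy, hyq⟩ := h.surj q
  have hu2 := h.ut_sq hu
  have hui : u⁻¹ = u := inv_eq_of_mul_eq_one_right hu2
  have hy' : u * y * u ∈ D := by
    have := h.conj_mem hy u
    rwa [hui] at this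
  have hne : pt y ≠ pt (u * y * u) := by
    have := h.equiv y hy u
    rw [hui] at this
    rw [this, hyq]; exact Ne.symm hq
  obtain ⟨m, hm, hmy, hmu, -, -, -⟩ := h.exists_middle hy hy' (h.odd y hy _ hy' hne)
  have hmu' : Commute u m := hmu u hu2 rfl
  have hmo : pt m = o := h.ut_cent hu hm hmu'.symm
  set z := m * u with hz
  have hz2 : z * z = 1 := by
    rw [hz, ← pow_two, hmu'.symm.mul_pow, pow_two, pow_two, h.sq hm, hu2, one_mul]
  have hz1 : z ≠ 1 := fun e => by
    obtain ⟨a, b, -, -, -, -, hD, -, rfl⟩ := id hu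
    have h1 : a * b = m⁻¹ := eq_inv_of_mul_eq_one_right (hz ▸ e : m * (a * b) = 1)
    exact hD (by rw [h1, h.inv_eq hm]; exact hm)
  have hzo : z ∈ Subgroup.closure (mems D pt o) :=
    mul_mem (Subgroup.subset_closure ⟨hm, hmo⟩) (h.ut_mem_closure hu)
  have hzm : Commute z m := (Commute.refl m).mul_left hmu'
  have hzy : Commute z y := by
    have h1 : m * (u * y * u) * m = y := by
      rw [← hmy]; simp only [mul_assoc, h.cancel hm, h.sq hm, mul_one]
    have h2 : z * y * z = y := by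
      calc z * y * z = m * u * y * (u * m) := by rw [hz, hmu'.eq]
        _ = m * (u * y * u) * m := by simp only [mul_assoc]
        _ = y := h1
    calc z * y = z * y * z * z := by rw [mul_assoc _ z z, hz2, mul_one]
      _ = y * z := by rw [h2]
  have hqo : q ≠ o := fun e => hq (by rw [e]; exact h.ut_fix hu)
  obtain ⟨c, hc, hcmy, -, hcz, -, -⟩ := h.exists_middle hm hy (h.odd m hm y hy (by rw [hmo, hyq]; exact hqo.symm))
  have hzc : Commute z c := hcz z hzm hzy
  have hzq : z ∈ Subgroup.closure (mems D pt q) := by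
    have h1 : z = c * z * c := by rw [← hzc.eq, mul_assoc, h.sq hc, mul_one]
    have h2 : Subgroup.closure (mems D pt o) ≤
        (Subgroup.closure (mems D pt q)).comap (MulAut.conj c).toMonoidHom := by
      rw [Subgroup.closure_le]
      rintro w ⟨hw, hwo⟩
      refine Subgroup.subset_closure ⟨h.conj_mem hw c, ?_⟩
      show pt (c * w * c⁻¹) = q
      rw [h.equiv w hw, hwo, ← hmo, ← h.pt_conj hm hc, hcmy, hyq]
    have h3 : c * z * c⁻¹ ∈ Subgroup.closure (mems D pt q) := h2 hzo
    rw [h.inv_eq hc, ← h1] at h3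
    exact h3
  obtain ⟨p, hp⟩ : ∃ p : Ω, z • p ≠ p := by
    by_contra hcon
    push Not at hcon
    exact hz1 (hf z hcon)
  obtain ⟨x, hx, hxp⟩ := h.surj p
  have hzi : z⁻¹ = z := inv_eq_of_mul_eq_one_right hz2
  have hx' : z * x * z ∈ D := by
    have := h.conj_mem hx z
    rwa [hzi] at this
  have hne' : pt x ≠ pt (z * x * z) := by
    have := h.equiv x hx z
    rw [hzi] at this
    rw [this, hxp]; exact Ne.symm hp
  obtain ⟨n, hn, -, hnz, -, -, hnA⟩ := h.exists_middle hx hx' (h.odd x hx _ hx' hne')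
  have hA : ∀ A : Subgroup G, x ∈ A → z * x * z⁻¹ ∈ A → n ∈ A := fun A h1 h2 => hnA A h1 (by rwa [hzi] at h2)
  exact hqo.symm ((h.middle_at hf IH hk hzo hp hx hxp hn (hnz z hz2 rfl) hA).symm.trans
    (h.middle_at hf IH hk hzq hp hx hxp hn (hnz z hz2 rfl) hA))

end Split

end CfsgLib.RootSplit
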