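import Cfsg.Agent.Lib.ThreeTrans.RootSplit.ProdComp

/-!
Owner: helper27. Non-degenerate classes of root involutions: generation and weak TI-subsets.
-/

set_option autoImplicit false
set_option linter.unusedSectionVars false

namespace CfsgLib.RootSplit

open Cfsg CfsgLib.ThreeTrans

universe u

variable {G : Type u} [Group G] [Finite G] {D : Set G}

/-- A part of a class normalised by every member is the whole class. -/
theorem mem_of_invariant (hcl : IsRootInvolutionClass D) {P : Set G} {p : G} (hpD : p ∈ D) (hp : p ∈ P)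
    (hinv : ∀ d ∈ D, ∀ e ∈ P, d * e * d⁻¹ ∈ P) {z : G} (hz : z ∈ D) : z ∈ P := by
  obtain ⟨g, rfl⟩ := hcl.2.2 p hpD z hz
  have key : ∀ g : G, ∀ e ∈ P, g * e * g⁻¹ ∈ P := by
    intro g
    have hg : g ∈ Subgroup.closure D := hcl.1.generates ▸ Subgroup.mem_top g
    induction hg using Subgroup.closure_induction_left with
    | one => intro e he; simpa using he
    | mul_left x hx y _ ih =>
      intro e he
      rw [show x * y * e * (x * y)⁻¹ = x * (y * e * y⁻¹) * x⁻¹ by group]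
      exact hinv x hx _ (ih e he)
    | inv_mul_cancel x hx y _ ih =>
      intro e he
      rw [RootInv.inv_eq hcl.1 hx, show x * y * e * (x * y)⁻¹ = x * (y * e * y⁻¹) * x⁻¹ by group]
      exact hinv x hx _ (ih e he)
  exact key g p hp

/-- Pairwise commuting elements generate a commutative subgroup. -/
theorem isMulCommutative_closure {T : Set G} (h : ∀ a ∈ T, ∀ b ∈ T, a * b = b * a) :
    IsMulCommutative ↥(Subgroup.closure T) := by
  have h1 : Subgroup.closure T ≤ Subgroup.centralizer T :=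
    (Subgroup.closure_le _).2 fun a ha => Subgroup.mem_centralizer_iff.2 fun b hb => h b hb a ha
  have h2 : Subgroup.closure T ≤ Subgroup.centralizer (Subgroup.closure T : Set G) :=
    Subgroup.le_centralizer_iff.1 ((Subgroup.closure_le _).2 fun a ha =>
      Subgroup.mem_centralizer_iff.2 fun b hb => ((Subgroup.mem_centralizer_iff.1 (h1 hb)) a ha).symm)
  exact ⟨⟨fun x y => Subtype.ext ((Subgroup.mem_centralizer_iff.1 (h2 y.2)) x x.2)⟩⟩

variable (hD : IsNondegenerateRootInvolutionSet D) (hcl : IsRootInvolutionClass D)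
include hD hcl

theorem not_isolated {a : G} (ha : a ∈ D) : ¬ IsIsolatedElem (OddAdj D) D a := by
  obtain ⟨a₀, ha₀, b₀, hb₀, hne, hodd⟩ := hD.2.2.1
  obtain ⟨g, rfl⟩ := hcl.2.2 a₀ ha₀ a ha
  intro h
  exact (h.2 (g * b₀ * g⁻¹)).1 (RootInv.adj_of_mem hD.1 ha
    (RootInv.odd_conj hD.1 ⟨hb₀, hne.symm, hodd⟩ g))

theorem oddConnected_of_class : IsConnectedSet (OddAdj D) D := by
  intro a ha b hb
  refine mem_of_invariant hcl (P := {e | e ∈ D ∧ RootInv.Reach D a e}) ha ⟨ha, .refl⟩ ?_ hb |>.2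
  rintro d hd e ⟨he, hr⟩
  have heD := hD.1.conj_mem e he d
  refine ⟨heD, ?_⟩
  rcases hD.1.pair d hd e he with hc | ho | ⟨h4, -⟩
  · rw [hc, mul_inv_cancel_right]; exact hr
  all_goals
    have hde : RootInv.Reach D e d := by
      first
        | (by_cases hde : e = d
           · exact hde ▸ .refl
           · exact .single ⟨he, hd, hde, by rwa [RootInv.orderOf_symm hD.1 hd he]⟩)
        | (obtain ⟨htri, -, -, hsym⟩ := RootInv.tri_four hD.1 hd he h4
           obtain ⟨htri', -, -, -⟩ := RootInv.tri_four hD.1 he hd (by rw [RootInv.orderOf_symm hD.1 hd he]; exact h4)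
           rw [hsym] at htri'
           exact (RootInv.reach_of_tri hD.1 htri' (not_isolated hD hcl he)
             (not_isolated hD hcl htri'.2.1)).trans (RootInv.reach_symm hD.1
               (RootInv.reach_of_tri hD.1 htri (not_isolated hD hcl hd) (not_isolated hD hcl htri.2.1))))
    have h1 : RootInv.Reach D (d * e * d⁻¹) d := by
      refine (hde.lift (fun x => d * x * d⁻¹) ?_).trans (by simp only [mul_inv_cancel_right]; exact .refl)
      rintro x y ⟨hx, hy, hxy, ho⟩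
      exact RootInv.adj_of_mem hD.1 (hD.1.conj_mem x hx d)
        (RootInv.odd_conj hD.1 ⟨hy, hxy.symm, ho⟩ d)
    exact (hr.trans hde).trans (RootInv.reach_symm hD.1 h1)

/-- A chain `(a f)² = b`, `(b x)² = f` ends in a pair of odd order. -/
theorem odd_of_chain {a b f x : G} (ha : a ∈ D) (htri : RootInv.Tri D a b) (hf4 : orderOf (a * f) = 4)
    (hf2 : (a * f) ^ 2 = b) (hbf : RootInv.Tri D b f) (hx2 : (b * x) ^ 2 = f) (hfx : RootInv.Tri D f x) :
    x ∈ oddPartners D a := by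
  have hR := hD.1
  have hb := htri.2.1
  have hfD := hbf.2.1
  have hxD := hfx.2.1
  by_contra ho
  have h4 := RootInv.pow_four hR ha hxD ho
  set r := a * x with hr
  have hri : r⁻¹ = x * a := RootInv.mul_inv_rev' hR ha hxD
  have haba : a * b * a = b := by rw [htri.2.2.1, mul_assoc, RootInv.sq_one hR ha, mul_one]
  have hafa : a * f * a = f * b := by
    rw [RootInv.conj_left hR ha hfD (by rw [← hf4, pow_orderOf_eq_one]), hf2]
  have hxfx : x * f * x = f := by rw [← hfx.2.2.1, mul_assoc, RootInv.sq_one hR hxD, mul_one]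
  have hxbx : x * b * x = b * f := by rw [RootInv.conj_right hR hb, hx2]
  have cbf : b * f = f * b := hbf.2.2.1
  have r1 : r * b * r⁻¹ = f := by
    calc r * b * r⁻¹ = a * (x * b * x) * a := by rw [hri, hr]; simp only [mul_assoc]
      _ = a * b * a * (a * f * a) := by rw [hxbx]; simp only [mul_assoc, RootInv.cancel hR ha]
      _ = f := by rw [haba, hafa, ← mul_assoc, cbf, mul_assoc, RootInv.sq_one hR hb, mul_one]
  have r2 : r * f * r⁻¹ = f * b := by
    calc r * f * r⁻¹ = a * (x * f * x) * a := by rw [hri, hr]; simp only [mul_assoc]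
      _ = f * b := by rw [hxfx, hafa]
  have r3 : r * (f * b) * r⁻¹ = b := by
    calc r * (f * b) * r⁻¹ = r * f * r⁻¹ * (r * b * r⁻¹) := by group
      _ = b := by rw [r1, r2, ← cbf, mul_assoc, RootInv.sq_one hR hfD, mul_one]
  refine RootInv.Tri.ne hR hbf ?_
  calc b = r ^ 4 * b * (r ^ 4)⁻¹ := by rw [hr, h4]; simp
    _ = r * (r * (r * (r * b * r⁻¹) * r⁻¹) * r⁻¹) * r⁻¹ := by
        simp only [pow_succ', pow_zero, mul_one, mul_inv_rev, mul_assoc]
    _ = f := by rw [r1, r2, r3, r1]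

/-- The first pair of a product of order four has different odd partners. -/
theorem oddPartners_ne_of_four {a b : G} (ha : a ∈ D) (hb : b ∈ D) (h4 : orderOf (a * b) = 4) :
    oddPartners D a ≠ oddPartners D ((a * b) ^ 2) := by
  intro e
  obtain ⟨htri, -, hcb, -⟩ := RootInv.tri_four hD.1 ha hb h4
  have hC := RootInv.commuting_eq_of_sameOdd hD.1 (oddConnected_of_class hD hcl) ha htri.2.1 e
  have h1 : b ∈ commutingMembers D a := hC ▸ ⟨hb, hcb.symm⟩
  have h2 := orderOf_dvd_of_pow_eq_one (RootInv.sq_eq_one_of_comm hD.1 ha hb h1.2.symm)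
  rw [h4] at h2
  exact absurd (Nat.le_of_dvd two_pos h2) (by norm_num)

/-- The product graph is connected. -/
theorem prod_connected (hmain : AschCrit.Main.{u}) : IsConnectedSet (ProdAdj D) D := by
  intro a ha b hb
  obtain ⟨a₁, ha₁, b₁, hb₁, h4₁⟩ := hD.2.2.2
  obtain ⟨g, hg⟩ := hcl.2.2 a₁ ha₁ a ha
  have h4 : orderOf (a * (g * b₁ * g⁻¹)) = 4 := by
    rw [hg, show g * a₁ * g⁻¹ * (g * b₁ * g⁻¹) = g * (a₁ * b₁) * g⁻¹ by group, ← MulAut.conj_apply,
      MulEquiv.orderOf_eq, h4₁]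
  obtain ⟨f, hf, rfl⟩ : ∃ f ∈ D, g * b₁ * g⁻¹ = f := ⟨_, hD.1.conj_mem b₁ hb₁ g, rfl⟩
  obtain ⟨htri, -, -, -⟩ := RootInv.tri_four hD.1 ha hf h4
  obtain ⟨x, hx4, hxD, hx3⟩ := RootInv.exists_order_three hD.1 (oddConnected_of_class hD hcl) htri
    (oddPartners_ne_of_four hD hcl ha hf h4)
  have hax : PReach D a x :=
    (Relation.ReflTransGen.single (prodAdj_of_tri hD.1 htri)).trans (pReach_of_four hD.1 htri.2.1 hxD hx4)
  have hodd : x ∈ oddPartners D a := ⟨hxD, fun e => by
    rw [e, RootInv.sq_one hD.1 ha, orderOf_one] at hx3; omega, by rw [hx3]; decide⟩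
  refine mem_of_invariant hcl (P := {e | PReach D a e}) ha .refl ?_ hb
  intro d hd e he
  by_cases hde : PReach D a d
  · have := pReach_conj hD.1 d (pReach_symm he |>.trans hde)
    rw [mul_inv_cancel_right] at this
    exact hde.trans (pReach_symm this)
  · have := commute_component hD.1 ha hd hde (component_commutes hmain hD.1 ha hax hodd hd hde) he
    show PReach D a (d * e * d⁻¹)
    rw [← this, mul_inv_cancel_right]
    exact he

/-- The group is generated by an odd partner and the product partners of a member. -/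
theorem generation (hmain : AschCrit.Main.{u}) {d x : G} (hd : d ∈ D) (hx : x ∈ oddPartners D d) :
    Subgroup.closure (productPartners D d ∪ {x}) = ⊤ := by
  have hR := hD.1
  have hconn := prod_connected hD hcl hmain
  set N := Subgroup.closure (productPartners D d ∪ {x}) with hN
  have hpart : ∀ {a e : G}, RootInv.Tri D a e → e ∈ productPartners D a := fun {a e} h =>
    ⟨⟨h.2.1, h.2.2.1.symm, (RootInv.Tri.ne hR h).symm⟩, h.2.2.1 ▸ h.2.2.2⟩
  obtain ⟨e₀, he₀⟩ : ∃ e, RootInv.Tri D d e := by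
    obtain ⟨a₁, ha₁, b₁, hb₁, h4⟩ := hD.2.2.2
    obtain ⟨htri, -, -, -⟩ := RootInv.tri_four hR ha₁ hb₁ h4
    obtain ⟨g, rfl⟩ := hcl.2.2 a₁ ha₁ d hd
    refine ⟨g * (a₁ * b₁) ^ 2 * g⁻¹, hd, hR.conj_mem _ htri.2.1 g, ?_, ?_⟩
    · rw [show g * a₁ * g⁻¹ * (g * (a₁ * b₁) ^ 2 * g⁻¹) = g * (a₁ * (a₁ * b₁) ^ 2) * g⁻¹ by group,
        htri.2.2.1]
      group
    · rw [show g * a₁ * g⁻¹ * (g * (a₁ * b₁) ^ 2 * g⁻¹) = g * (a₁ * (a₁ * b₁) ^ 2) * g⁻¹ by group]
      exact hR.conj_mem _ htri.2.2.2 g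
  have hdN : d ∈ N := by
    have h1 : e₀ ∈ N := Subgroup.subset_closure (Or.inl (hpart he₀))
    have h2 : d * e₀ ∈ N := Subgroup.subset_closure (Or.inl (hpart (RootInv.Tri.third hR he₀)))
    have := mul_mem h2 h1
    rwa [mul_assoc, RootInv.sq_one hR he₀.2.1, mul_one] at this
  have hxN : x ∈ N := Subgroup.subset_closure (Or.inr rfl)
  suffices hgood : ∀ a, PReach D d a → ∃ g ∈ N, g * d * g⁻¹ = a by
    rw [eq_top_iff, ← hR.generates, Subgroup.closure_le]
    intro a ha
    obtain ⟨g, hg, rfl⟩ := hgood a (hconn d hd a ha)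
    exact mul_mem (mul_mem hg hdN) (inv_mem hg)
  intro a ha
  induction ha with
  | refl => exact ⟨1, one_mem _, by simp⟩
  | @tail a b _ hab ih =>
    obtain ⟨g, hg, rfl⟩ := ih
    obtain ⟨haD, hbD, -, hc, habD⟩ := hab
    set a := g * d * g⁻¹ with ha'
    have haN : a ∈ N := mul_mem (mul_mem hg hdN) (inv_mem hg)
    have hXa : ∀ e, RootInv.Tri D a e → e ∈ N := fun e he => by
      have hdd : RootInv.Tri D d (g⁻¹ * e * g⁻¹⁻¹) := by
        refine ⟨hd, hR.conj_mem e he.2.1 _, ?_, ?_⟩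
        · rw [show d * (g⁻¹ * e * g⁻¹⁻¹) = g⁻¹ * (a * e) * g⁻¹⁻¹ by rw [ha']; group, he.2.2.1, ha']; group
        · rw [show d * (g⁻¹ * e * g⁻¹⁻¹) = g⁻¹ * (a * e) * g⁻¹⁻¹ by rw [ha']; group]
          exact hR.conj_mem _ he.2.2.2 _
      have h1 := mul_mem (mul_mem hg (Subgroup.subset_closure (Or.inl (hpart hdd)) : g⁻¹ * e * g⁻¹⁻¹ ∈ N))
        (inv_mem hg)
      rwa [show g * (g⁻¹ * e * g⁻¹⁻¹) * g⁻¹ = e by group] at h1
    have hy : g * x * g⁻¹ ∈ oddPartners D a := RootInv.odd_conj hR hx g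
    set y := g * x * g⁻¹ with hy'
    have hyN : y ∈ N := mul_mem (mul_mem hg hxN) (inv_mem hg)
    have htri : RootInv.Tri D a b := ⟨haD, hbD, hc, habD⟩
    have hbN : b ∈ N := hXa b htri
    have habN : a * b ∈ N := mul_mem haN hbN
    obtain ⟨g₁, hg₁, hg₁a⟩ := exists_conj_odd hR haD hy N haN hyN
    suffices h : ∃ g₂ ∈ N, g₂ * y * g₂⁻¹ = b by
      obtain ⟨g₂, hg₂, rfl⟩ := h
      exact ⟨g₂ * g₁ * g, mul_mem (mul_mem hg₂ hg₁) hg, by rw [← hg₁a, ha']; group⟩
    by_cases hyb : y ∈ oddPartners D b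
    · exact exists_conj_odd hR hy.1 (RootInv.mem_odd_symm hR hbD hyb) N hyN hbN
    have h1 := RootInv.Tri.third hR (RootInv.Tri.symm hR htri)
    have hyab : y ∈ oddPartners D (a * b) := by
      rw [hc]
      exact (RootInv.T1 hR h1 (by rwa [RootInv.cancel hR hbD])).resolve_left hyb
    have hne : oddPartners D b ≠ oddPartners D a := fun e => hyb (e ▸ hy)
    obtain ⟨f, hf4, hf2, haf⟩ := RootInv.exists_root hR (oddConnected_of_class hD hcl)
      (RootInv.Tri.symm hR htri) hne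
    have hfD := haf.2.1
    have hfN : f ∈ N := hXa f haf
    obtain ⟨g₂, hg₂, hg₂y⟩ := exists_conj_odd hR hy.1 (RootInv.mem_odd_symm hR habD hyab) N hyN habN
    refine ⟨f * g₂, mul_mem hfN hg₂, ?_⟩
    calc f * g₂ * y * (f * g₂)⁻¹ = f * (g₂ * y * g₂⁻¹) * f⁻¹ := by group
      _ = f * (b * a) * f⁻¹ := by rw [hg₂y, hc]
      _ = b := by
          have h2 : f * b * f = b * a := by rw [RootInv.conj_right hR hbD, hf2]
          rw [RootInv.inv_eq hR hfD, ← h2]
          simp only [mul_assoc, RootInv.cancel hR hfD, RootInv.sq_one hR hfD, mul_one]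

/-- Weak TI-subsets consist of commuting members. -/
theorem weakTI_commute (hmain : AschCrit.Main.{u}) {T : Set G} (hT : IsWeakTISubsetOfElements D T) :
    ∀ a ∈ T, ∀ b ∈ T, a * b = b * a := by
  obtain ⟨hsub, -, hne, hTI⟩ := hT
  have hR := hD.1
  let N : Subgroup G :=
    { carrier := {g | ∀ t, t ∈ T ↔ g * t * g⁻¹ ∈ T}
      one_mem' := fun t => by simp
      mul_mem' := fun {g h} hg hh t => by
        rw [hh t, hg (h * t * h⁻¹), show g * (h * t * h⁻¹) * g⁻¹ = g * h * t * (g * h)⁻¹ by group]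
      inv_mem' := fun {g} hg t => by
        rw [hg (g⁻¹ * t * g⁻¹⁻¹), show g * (g⁻¹ * t * g⁻¹⁻¹) * g⁻¹ = t by group] }
  have hfix : ∀ X ∈ T, ∀ d ∈ D, X * d = d * X → d ∈ N := by
    intro X hX d hd hc t
    rcases hTI d hd with h | h
    · constructor
      · intro ht
        rw [← h]
        exact ⟨t, ht, rfl⟩
      · intro ht
        rw [← h] at ht
        obtain ⟨s, hs, e⟩ := ht
        rwa [← mul_left_cancel (mul_right_cancel e)]
    · exact absurd hX (Set.disjoint_left.1 h ⟨X, hX, by show d * X * d⁻¹ = X; rw [← hc, mul_inv_cancel_right]⟩)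
  have hodd : ∀ X ∈ T, ∀ Y ∈ T, Y ∉ oddPartners D X := by
    intro X hX Y hY ho
    have htop : N = ⊤ := by
      rw [eq_top_iff, ← generation hD hcl hmain (hsub hX) ho, Subgroup.closure_le]
      rintro e (he | rfl)
      · exact hfix X hX e he.1.1 he.1.2.1.symm
      · exact hfix e hY e (hsub hY) rfl
    refine hne (Set.Subset.antisymm hsub fun Z hZ => ?_)
    obtain ⟨g, rfl⟩ := hcl.2.2 X (hsub hX) Z hZ
    exact ((htop ▸ Subgroup.mem_top g : g ∈ N) X).1 hX
  intro X hX Y hY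
  by_contra hnc
  have hXD := hsub hX
  have hYD := hsub hY
  have hc' : Y * X ≠ X * Y := fun e => hnc e.symm
  obtain ⟨h4, -⟩ := RootInv.four hR hYD hXD hc' (hodd Y hY X hX)
  obtain ⟨htri, -, hcX, -⟩ := RootInv.tri_four hR hYD hXD h4
  set c := (Y * X) ^ 2 with hc
  have hXc : RootInv.Tri D c X := by
    obtain ⟨htri', -, -, -⟩ := RootInv.tri_four hR hXD hYD (by rw [RootInv.orderOf_symm hR hYD hXD]; exact h4)
    rw [show (X * Y) ^ 2 = c from RootInv.sq_symm hR hYD hXD (by rw [← h4, pow_orderOf_eq_one])] at htri'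
    exact RootInv.Tri.symm hR htri'
  have hne' : oddPartners D c ≠ oddPartners D X := by
    intro e
    have h4' : orderOf (X * Y) = 4 := by rw [RootInv.orderOf_symm hR hYD hXD]; exact h4
    have := oddPartners_ne_of_four hD hcl hXD hYD h4'
    rw [show (X * Y) ^ 2 = c from RootInv.sq_symm hR hYD hXD (by rw [← h4, pow_orderOf_eq_one])] at this
    exact this e.symm
  obtain ⟨m, hm4, hm2, hXm⟩ := RootInv.exists_root hR (oddConnected_of_class hD hcl) hXc hne'
  have hYm := odd_of_chain hD hcl hYD htri h4 rfl hXc hm2 hXm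
  have hmN : m ∈ N := hfix X hX m hXm.2.1 hXm.2.2.1
  obtain ⟨g, hg, hgm⟩ := exists_conj_odd hR hYD hYm N (hfix Y hY Y hYD rfl) hmN
  exact hodd Y hY m (hgm ▸ (hg Y).1 hY) hYm

end CfsgLib.RootSplit
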