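import Cfsg.Agent.Lib.ThreeTrans.RootSplit.Basic
import Mathlib.GroupTheory.GroupAction.SubMulAction

/-!
Owner: helper27. Root involutions split over points: subgroups generated by members.
-/

set_option autoImplicit false
set_option linter.unusedSectionVars false

namespace CfsgLib.RootSplit

open Cfsg CfsgLib.ThreeTrans

universe u v

variable {G : Type u} [Group G] [Finite G] {Ω : Type v} [MulAction G Ω] {D : Set G} {pt : G → Ω}

namespace Split

variable (h : Split D pt)
include h

/-- The points of the members in a subgroup. -/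
def points (A : Subgroup G) : SubMulAction A Ω where
  carrier := {q | ∃ d ∈ D, d ∈ A ∧ pt d = q}
  smul_mem' := by
    rintro g q ⟨d, hd, hdA, rfl⟩
    exact ⟨(g : G) * d * (g : G)⁻¹, h.conj_mem hd _, mul_mem (mul_mem g.2 hdA) (inv_mem g.2), h.equiv d hd _⟩

theorem mem_points {A : Subgroup G} {d : G} (hd : d ∈ D) (hdA : d ∈ A) : pt d ∈ h.points A :=
  ⟨d, hd, hdA, rfl⟩

open Classical in
/-- The point map of a subgroup. -/
noncomputable def subPt (A : Subgroup G) [Nonempty (h.points A)] (g : A) : h.points A :=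
  if hg : (g : G) ∈ D then ⟨pt g, h.mem_points hg g.2⟩ else Classical.arbitrary _

theorem subPt_coe (A : Subgroup G) [Nonempty (h.points A)] {g : A} (hg : (g : G) ∈ D) :
    ((h.subPt A g : h.points A) : Ω) = pt g := by
  rw [subPt, dif_pos hg]

/-- A subgroup generated by members at two or more points with a triple is split. -/
theorem restrict {S : Set G} (hS : S ⊆ D) {d e : G} (hd : d ∈ D) (he : e ∈ D)
    (hdA : d ∈ Subgroup.closure S) (heA : e ∈ Subgroup.closure S) (hne : pt d ≠ pt e) {a b : G}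
    (htri : RootInv.Tri D a b) (haA : a ∈ Subgroup.closure S) (hbA : b ∈ Subgroup.closure S)
    [Nonempty (h.points (Subgroup.closure S))] :
    Split {g : Subgroup.closure S | (g : G) ∈ D} (h.subPt (Subgroup.closure S)) := by
  set A := Subgroup.closure S with hA
  refine ⟨⟨fun g hg => ?_, ?_, fun g hg c => h.conj_mem hg (c : G), fun x hx y hy => ?_⟩, fun g hg c => ?_,
    fun x hx y hy hxy => ?_, ?_, fun q => ?_, ?_⟩
  · rw [← Subgroup.orderOf_coe]; exact h.root.orderOf_eq _ hg
  · rw [eq_top_iff]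
    rintro ⟨g, hg⟩ -
    induction hg using Subgroup.closure_induction with
    | mem y hy => exact Subgroup.subset_closure (k := {g : A | (g : G) ∈ D}) (hS hy)
    | one => exact one_mem _
    | mul y z _ _ hy hz => exact mul_mem hy hz
    | inv y _ hy => exact inv_mem hy
  · rcases h.root.pair _ hx _ hy with hc | ho | ⟨h4, hD4⟩
    · exact Or.inl (Subtype.ext hc)
    · exact Or.inr (Or.inl (by rwa [← Subgroup.orderOf_coe]))
    · exact Or.inr (Or.inr ⟨by rwa [← Subgroup.orderOf_coe], hD4⟩)
  · refine Subtype.ext ?_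
    rw [h.subPt_coe A (g := c * g * c⁻¹) (h.conj_mem hg (c : G)), SubMulAction.val_smul, h.subPt_coe A hg]
    exact h.equiv _ hg _
  · rw [← Subgroup.orderOf_coe]
    refine h.odd _ hx _ hy fun e => hxy (Subtype.ext ?_)
    rw [h.subPt_coe A hx, h.subPt_coe A hy, e]
  · rintro ⟨q, g, hg, hgA, rfl⟩
    exact ⟨⟨g, hgA⟩, hg, Subtype.ext (h.subPt_coe A (g := ⟨g, hgA⟩) hg)⟩
  · by_cases hq : pt d = (q : Ω)
    · exact ⟨⟨pt e, h.mem_points he heA⟩, fun e1 => hne (hq.trans (congrArg Subtype.val e1).symm)⟩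
    · exact ⟨⟨pt d, h.mem_points hd hdA⟩, fun e1 => hq (congrArg Subtype.val e1)⟩
  · exact ⟨⟨a, haA⟩, ⟨b, hbA⟩, htri.1, htri.2.1, Subtype.ext htri.2.2.1, htri.2.2.2⟩

/-- Reachability in the subgroup gives reachability in the group. -/
theorem reach_of_sub (A : Subgroup G) [Nonempty (h.points A)]
    {o c d : h.points A} (hs : Relation.ReflTransGen (Step {g : A | (g : G) ∈ D} (h.subPt A) o) c d) :
    Relation.ReflTransGen (Step D pt (o : Ω)) (c : Ω) (d : Ω) := by
  refine hs.lift Subtype.val ?_
  rintro c' d' ⟨hco, y, hy, hyc, hyd⟩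
  refine ⟨fun e => hco (Subtype.ext e), (y : G), hy, ?_, ?_⟩
  · rw [← hyc, h.subPt_coe A hy]
  · rw [← hyd, SubMulAction.val_smul]; rfl

/-- A subgroup of elements fixing a point and normalised by a generating set is trivial. -/
theorem eq_one_of_invariant (hf : ∀ g : G, (∀ q : Ω, g • q = q) → g = 1) {A S : Set G} {o : Ω}
    (hA : Subgroup.closure A = ⊤) (hAi : ∀ g ∈ A, g * g = 1) (hS : ∀ s ∈ S, s • o = o)
    (hnorm : ∀ g ∈ A, ∀ s ∈ S, g * s * g ∈ Subgroup.closure S) {s : G} (hs : s ∈ S) : s = 1 := by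
  set W := Subgroup.closure S with hW
  have hWo : W ≤ MulAction.stabilizer G o := (Subgroup.closure_le _).2 hS
  have key : ∀ g ∈ A, ∀ w ∈ W, g * w * g ∈ W := by
    intro g hg w hw
    induction hw using Subgroup.closure_induction with
    | mem y hy => exact hnorm g hg y hy
    | one => rw [mul_one, hAi g hg]; exact one_mem _
    | mul y z _ _ hy hz =>
      have : g * (y * z) * g = g * y * g * (g * z * g) := by
        simp only [mul_assoc]; rw [← mul_assoc g g, hAi g hg, one_mul]
      rw [this]; exact mul_mem hy hz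
    | inv y _ hy =>
      have := inv_mem hy
      rwa [mul_inv_rev, mul_inv_rev, inv_eq_of_mul_eq_one_right (hAi g hg), ← mul_assoc] at this
  have hle : (⊤ : Subgroup G) ≤ Subgroup.normalizer (W : Set G) := by
    rw [← hA, Subgroup.closure_le]
    intro g hg
    refine Subgroup.mem_normalizer_iff.2 fun w => ?_
    rw [inv_eq_of_mul_eq_one_right (hAi g hg)]
    refine ⟨key g hg w, fun hw => ?_⟩
    have := key g hg _ hw
    rwa [show g * (g * w * g) * g = w by
      simp only [mul_assoc, hAi g hg, mul_one]; rw [← mul_assoc, hAi g hg, one_mul]] at this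
  refine hf s fun q => ?_
  obtain ⟨g, rfl⟩ := h.trans o q
  have h1 : g⁻¹ * s * g ∈ W := by
    have := (Subgroup.mem_normalizer_iff.1 (hle (Subgroup.mem_top g⁻¹)) s).1 (Subgroup.subset_closure hs)
    rwa [inv_inv] at this
  have h2 : (g⁻¹ * s * g) • o = o := hWo h1
  rwa [mul_smul, mul_smul, inv_smul_eq_iff] at h2

end Split

end CfsgLib.RootSplit
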